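import Cfsg.Agent.S0516
import Cfsg.Agent.S0483
import Cfsg.Agent.S0486
import Cfsg.Agent.Lib.Invol.SmallCent.Sylow

/-!
# Simple groups of 2-rank at most two

The classification, from the two statements on quasi-dihedral and wreathed Sylow 2-subgroups,
which are taken as explicit hypotheses.
-/

set_option autoImplicit false

namespace Cfsg.Agent.Invol.AbgConsumers

open scoped commutatorElement

universe u

/-- The classification of simple groups with quasi-dihedral Sylow 2-subgroups. -/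
def SDStmt : Prop :=
  ∀ (G : Type u) [Group G] [Finite G] [IsSimpleGroup G] (S : Sylow 2 G),
    Cfsg.IsQuasiDihedral (S : Subgroup G) →
    (∃ (F : Type) (_ : Field F) (_ : Fintype F), Fintype.card F % 4 = 3 ∧
        Nonempty (G ≃* Matrix.ProjectiveSpecialLinearGroup (Fin 3) F)) ∨
      (∃ (F : Type) (_ : Field F) (_ : Fintype F) (q : ℕ), Fintype.card F = q ^ 2 ∧ q % 4 = 1 ∧
        Nonempty (G ≃* Cfsg.PSU 3 F q)) ∨
      Cfsg.IsM11 G

/-- The classification of simple groups with wreathed Sylow 2-subgroups. -/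
def WrStmt : Prop :=
  ∀ (G : Type u) [Group G] [Finite G] [IsSimpleGroup G] (S : Sylow 2 G),
    Cfsg.IsWreathed (S : Subgroup G) →
    (∃ (F : Type) (_ : Field F) (_ : Fintype F), Odd (Fintype.card F) ∧
        Nonempty (G ≃* Matrix.ProjectiveSpecialLinearGroup (Fin 3) F)) ∨
      (∃ (F : Type) (_ : Field F) (_ : Fintype F) (q : ℕ), Fintype.card F = q ^ 2 ∧ Odd q ∧
        Nonempty (G ≃* Cfsg.PSU 3 F q)) ∨
      Cfsg.IsM11 G

variable {G : Type u} [Group G] [Finite G]

theorem oddCore_eq_bot_of_simple [IsSimpleGroup G] (he : Even (Nat.card G)) : Cfsg.oddCore G = ⊥ := by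
  rcases (Grp.pPrimeCore_isNormal (p := 2) (G := G)).eq_bot_or_eq_top with e | e
  · exact e
  · exfalso
    have h8 := Grp.pPrimeCore_coprime (p := 2) (G := G)
    rw [e, Subgroup.card_top] at h8
    exact absurd (Nat.coprime_two_right.1 h8) (Nat.not_odd_iff_even.2 he)

/-- Gorenstein–Walter for simple groups. -/
theorem dihedral_cases [IsSimpleGroup G] (hG : ¬ IsMulCommutative G) (S : Sylow 2 G) (n : ℕ)
    (hn : 2 ≤ n) (e : Nonempty ((S : Subgroup G) ≃* DihedralGroup n)) :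
    (∃ (F : Type) (_ : Field F) (_ : Fintype F), Odd (Fintype.card F) ∧ 3 < Fintype.card F ∧
        Nonempty (G ≃* Matrix.ProjectiveSpecialLinearGroup (Fin 2) F)) ∨
      Nonempty (G ≃* alternatingGroup (Fin 7)) := by
  have he : Even (Nat.card G) :=
    OddUse.even_card_of_simple (fun h => Cfsg.Agent.S0205.result h) hG
  haveI : Group.IsPerfect G := ⟨by
    rcases (inferInstance : (commutator G).Normal).eq_bot_or_eq_top with h | h
    · exact absurd (⟨⟨fun a b => by
        have h1 : ⁅a, b⁆ ∈ commutator G := Subgroup.commutator_mem_commutator (Subgroup.mem_top a)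
          (Subgroup.mem_top b)
        rw [h, Subgroup.mem_bot, commutatorElement_eq_one_iff_mul_comm] at h1
        exact h1⟩⟩ : IsMulCommutative G) hG
    · exact h⟩
  have hb := oddCore_eq_bot_of_simple he
  haveI : (Cfsg.oddCore G).Normal := Grp.pPrimeCore_isNormal
  have q : G ⧸ Cfsg.oddCore G ≃* G :=
    (QuotientGroup.quotientMulEquivOfEq hb).trans QuotientGroup.quotientBot
  rcases Cfsg.Agent.S0483.result S n hn e with ⟨F, i1, i2, ho, h3, ⟨f⟩⟩ | hf
  · exact Or.inl ⟨F, i1, i2, ho, h3, ⟨q.symm.trans f⟩⟩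
  · obtain ⟨f⟩ := hf
    exact Or.inr ⟨q.symm.trans f⟩

/-- Simple groups of 2-rank at most two. -/
theorem rank_two (hSD : SDStmt.{u}) (hWr : WrStmt.{u}) [IsSimpleGroup G]
    (hG : ¬ IsMulCommutative G) (h2 : Cfsg.PRankLE 2 2 G) :
    (∃ (F : Type) (_ : Field F) (_ : Fintype F), Odd (Fintype.card F) ∧ 5 ≤ Fintype.card F ∧
        Nonempty (G ≃* Matrix.ProjectiveSpecialLinearGroup (Fin 2) F)) ∨
      (∃ (F : Type) (_ : Field F) (_ : Fintype F), Odd (Fintype.card F) ∧
        Nonempty (G ≃* Matrix.ProjectiveSpecialLinearGroup (Fin 3) F)) ∨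
      (∃ (F : Type) (_ : Field F) (_ : Fintype F) (q : ℕ), Fintype.card F = q ^ 2 ∧ Odd q ∧
        Nonempty (G ≃* Cfsg.PSU 3 F q)) ∨
      (∃ (F : Type) (_ : Field F) (_ : Fintype F), Fintype.card F = 16 ∧
        Nonempty (G ≃* Cfsg.PSU 3 F 4)) ∨
      Nonempty (G ≃* alternatingGroup (Fin 7)) ∨
      Cfsg.IsM11 G := by
  haveI : Fact (Nat.Prime 2) := ⟨Nat.prime_two⟩
  letI : Fintype (GaloisField 2 4) := Fintype.ofFinite _
  have hF : Fintype.card (GaloisField 2 4) = 16 := by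
    rw [← Nat.card_eq_fintype_card, GaloisField.card 2 4 (by norm_num)]
    norm_num
  obtain ⟨S⟩ : Nonempty (Sylow 2 G) := Sylow.nonempty
  obtain ⟨P⟩ : Nonempty (Sylow 2 (Cfsg.PSU 3 (GaloisField 2 4) 4)) := Sylow.nonempty
  rcases Cfsg.Agent.S0516.result hG h2 S hF P with ⟨n, hn, e⟩ | hS | hS | hS
  · rcases dihedral_cases hG S n hn e with ⟨F, i1, i2, ho, h3, hf⟩ | hf
    · refine Or.inl ⟨F, i1, i2, ho, ?_, hf⟩
      obtain ⟨m, hm⟩ := ho
      omega
    · exact Or.inr (Or.inr (Or.inr (Or.inr (Or.inl hf))))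
  · rcases hSD G S hS with ⟨F, i1, i2, h4, hf⟩ | ⟨F, i1, i2, q, hq, h4, hf⟩ | hM
    · exact Or.inr (Or.inl ⟨F, i1, i2, Nat.odd_iff.2 (by omega), hf⟩)
    · exact Or.inr (Or.inr (Or.inl ⟨F, i1, i2, q, hq, Nat.odd_iff.2 (by omega), hf⟩))
    · exact Or.inr (Or.inr (Or.inr (Or.inr (Or.inr hM))))
  · rcases hWr G S hS with h | h | h
    · exact Or.inr (Or.inl h)
    · exact Or.inr (Or.inr (Or.inl h))
    · exact Or.inr (Or.inr (Or.inr (Or.inr (Or.inr h))))
  · exact Or.inr (Or.inr (Or.inr (Or.inl ⟨GaloisField 2 4, inferInstance, inferInstance, hF,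
      Cfsg.Agent.S0486.result hF S P hS⟩)))

end Cfsg.Agent.Invol.AbgConsumers
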