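import Cfsg.Agent.S1240
import Cfsg.Agent.S0435
import Cfsg.Agent.S0205
import Cfsg.Agent.Lib.Invol.PSLThreeCentralizer
import Cfsg.Agent.Lib.Classical.UnitCenter
import Cfsg.Agent.Lib.Grp.Cores

/-!
# The odd core of an involution centraliser in `L₃(q)`, `U₃(q)` (`q` odd) and `M₁₁` is central in it
-/

set_option autoImplicit false
set_option linter.style.haveILetI false

namespace Cfsg.Agent.Invol.AbgConsumers

open Subgroup
open scoped commutatorElement

universe u v

/-- A matrix commuting with a non-scalar two-by-two matrix is a polynomial in it. -/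
theorem exists_coeff_of_commute {F : Type v} [Field F] {g x : Matrix (Fin 2) (Fin 2) F}
    (hg : ∀ c : F, g ≠ c • (1 : Matrix (Fin 2) (Fin 2) F)) (h : g * x = x * g) :
    ∃ a b : F, x = a • (1 : Matrix (Fin 2) (Fin 2) F) + b • g := by
  have e00 := congrFun (congrFun h 0) 0
  have e01 := congrFun (congrFun h 0) 1
  have e10 := congrFun (congrFun h 1) 0
  simp only [Matrix.mul_apply, Fin.sum_univ_two] at e00 e01 e10
  by_cases h01 : g 0 1 = 0
  · by_cases h10 : g 1 0 = 0
    · have hne : g 0 0 - g 1 1 ≠ 0 := fun e => hg (g 0 0) (by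
        ext i j
        fin_cases i <;> fin_cases j <;> simp [h01, h10]
        linear_combination -e)
      have hx01 : x 0 1 = 0 := by
        refine (mul_eq_zero.1 (show (g 0 0 - g 1 1) * x 0 1 = 0 from ?_)).resolve_left hne
        rw [h01] at e01
        linear_combination e01
      have hx10 : x 1 0 = 0 := by
        refine (mul_eq_zero.1 (show (g 0 0 - g 1 1) * x 1 0 = 0 from ?_)).resolve_left hne
        rw [h10] at e10
        linear_combination -e10
      refine ⟨x 0 0 - (x 0 0 - x 1 1) / (g 0 0 - g 1 1) * g 0 0, (x 0 0 - x 1 1) / (g 0 0 - g 1 1), ?_⟩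
      ext i j
      fin_cases i <;> fin_cases j <;> simp [h01, h10, hx01, hx10]
      field_simp
      ring
    · refine ⟨x 0 0 - x 1 0 / g 1 0 * g 0 0, x 1 0 / g 1 0, ?_⟩
      have hx01 : x 0 1 = 0 := by
        refine (mul_eq_zero.1 (show x 0 1 * g 1 0 = 0 from ?_)).resolve_right h10
        rw [h01] at e00
        linear_combination -e00
      ext i j
      fin_cases i <;> fin_cases j <;> simp [h01, hx01, h10]
      field_simp
      linear_combination -e10
  · refine ⟨x 0 0 - x 0 1 / g 0 1 * g 0 0, x 0 1 / g 0 1, ?_⟩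
    ext i j
    fin_cases i <;> fin_cases j <;> simp [h01]
    · field_simp
      linear_combination e00
    · field_simp
      linear_combination e01

/-- In a non-metabelian subgroup of `GL₂` over a field of characteristic not two an odd normal subgroup is
central. -/
theorem odd_normal_central_of_gl2 {K : Type u} [Group K] [Finite K] {F : Type v} [Field F]
    (h2 : (2 : F) ≠ 0) (φ : K →* GL (Fin 2) F) (hφ : Function.Injective φ)
    (hmeta : derivedSeries K 2 ≠ ⊥) (O : Subgroup K) [hOn : O.Normal] (hO : Odd (Nat.card O)) :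
    ∀ w ∈ O, ∀ c : K, c * w = w * c := by
  have hinj : ∀ {x y : K}, (φ x : Matrix (Fin 2) (Fin 2) F) = φ y → x = y := fun e => hφ (Units.ext e)
  let Scal : K → Prop := fun x => ∃ c : F, (φ x : Matrix (Fin 2) (Fin 2) F) = c • 1
  have hScal : ∀ x, Scal x → ∀ y : K, y * x = x * y := fun x ⟨c, hc⟩ y => hinj (by
    rw [map_mul, map_mul, Units.val_mul, Units.val_mul, hc, smul_mul_assoc, mul_smul_comm, one_mul, mul_one])
  intro w hw
  refine hScal w ?_
  by_contra hns
  -- an abelian normal subgroup with a non-scalar element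
  obtain ⟨A, hAn, hAc, g, hgA, hg⟩ : ∃ A : Subgroup K, A.Normal ∧ IsMulCommutative A ∧
      ∃ g ∈ A, ¬ Scal g := by
    obtain ⟨k, hk⟩ : ∃ k, derivedSeries O k = ⊥ :=
      (Group.isSolvable_def O).1 (Cfsg.Agent.S0205.result hO)
    suffices key : ∀ j, (∀ x ∈ (derivedSeries O j).map O.subtype, Scal x) →
        (∀ x ∈ O, Scal x) ∨ ∃ A : Subgroup K, A.Normal ∧ IsMulCommutative A ∧ ∃ g ∈ A, ¬ Scal g by
      refine (key k fun x hx => ⟨1, ?_⟩).resolve_left fun h => hns (h w hw)
      rw [hk, Subgroup.map_bot, mem_bot] at hx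
      rw [hx, map_one, Units.val_one, one_smul]
    intro j
    induction j with
    | zero => exact fun h => Or.inl fun x hx => h x ⟨⟨x, hx⟩, by rw [derivedSeries_zero]; exact mem_top _, rfl⟩
    | succ j ih =>
      intro h
      by_cases hj : ∀ x ∈ (derivedSeries O j).map O.subtype, Scal x
      · exact ih hj
      push Not at hj
      haveI : (derivedSeries O j).Characteristic := derivedSeries_characteristic O j
      refine Or.inr ⟨(derivedSeries O j).map O.subtype, inferInstance,
        ⟨⟨fun a b => Subtype.ext ?_⟩⟩, hj⟩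
      obtain ⟨a₀, ha, ea⟩ := a.2
      obtain ⟨b₀, hb, eb⟩ := b.2
      have hcm : ⁅a₀, b₀⁆ ∈ derivedSeries O (j + 1) := commutator_mem_commutator ha hb
      obtain ⟨c, hc⟩ := h _ ⟨_, hcm, rfl⟩
      have hdet : (φ (O.subtype ⁅a₀, b₀⁆) : Matrix (Fin 2) (Fin 2) F).det = 1 := by
        have e : Matrix.GeneralLinearGroup.det (φ (O.subtype ⁅a₀, b₀⁆)) = 1 := by
          rw [map_commutatorElement, map_commutatorElement, map_commutatorElement,
            commutatorElement_eq_one_iff_mul_comm]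
          exact mul_comm _ _
        exact congrArg Units.val e
      rw [hc, Matrix.det_smul, Matrix.det_one, mul_one, Fintype.card_fin] at hdet
      have hsq : O.subtype ⁅a₀, b₀⁆ * O.subtype ⁅a₀, b₀⁆ = 1 := hinj (by
        rw [map_mul, Units.val_mul, map_one, Units.val_one, hc, smul_mul_assoc, one_mul, smul_smul, ← pow_two,
          hdet, one_smul])
      have h1 : orderOf (O.subtype ⁅a₀, b₀⁆) ∣ 2 := orderOf_dvd_of_pow_eq_one (by rw [pow_two]; exact hsq)
      have h3 : orderOf (O.subtype ⁅a₀, b₀⁆) ∣ Nat.card O := O.orderOf_dvd_natCard (⁅a₀, b₀⁆ : O).2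
      have e1 : O.subtype ⁅a₀, b₀⁆ = 1 :=
        orderOf_eq_one_iff.1 (Nat.eq_one_of_dvd_coprimes (Nat.coprime_two_left.2 hO) h1 h3)
      rw [map_commutatorElement, ea, eb, commutatorElement_eq_one_iff_mul_comm] at e1
      exact e1
  -- every conjugate is a multiple of the trace-zero part
  set G₁ : Matrix (Fin 2) (Fin 2) F := (φ g : Matrix (Fin 2) (Fin 2) F) with hG₁
  set G₀ : Matrix (Fin 2) (Fin 2) F := G₁ - (G₁.trace / 2) • (1 : Matrix (Fin 2) (Fin 2) F) with hG₀
  have hgns : ∀ c : F, G₁ ≠ c • (1 : Matrix (Fin 2) (Fin 2) F) := fun c e => hg ⟨c, e⟩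
  have hb : ∀ h : K, ∃ b : F, (φ h : Matrix (Fin 2) (Fin 2) F) * G₀ = b • (G₀ * (φ h : Matrix (Fin 2) (Fin 2) F)) := by
    intro h
    have hmem : h * g * h⁻¹ ∈ A := hAn.conj_mem g hgA h
    have hcomm : g * (h * g * h⁻¹) = h * g * h⁻¹ * g :=
      congrArg Subtype.val (hAc.is_comm.comm (⟨g, hgA⟩ : A) ⟨_, hmem⟩)
    have e := congrArg (fun x => (φ x : Matrix (Fin 2) (Fin 2) F)) hcomm
    simp only [map_mul, Units.val_mul] at e
    obtain ⟨a, b, hab⟩ := exists_coeff_of_commute hgns e
    refine ⟨b, ?_⟩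
    have hinv : ((φ h⁻¹ : GL (Fin 2) F) : Matrix (Fin 2) (Fin 2) F) * φ h = 1 := by
      rw [← Units.val_mul, ← map_mul, inv_mul_cancel, map_one, Units.val_one]
    have htr : G₁.trace = 2 * a + b * G₁.trace := by
      have h1 := congrArg Matrix.trace hab
      rw [Matrix.trace_mul_cycle, hinv, one_mul, Matrix.trace_add, Matrix.trace_smul, Matrix.trace_smul,
        Matrix.trace_one, Fintype.card_fin, smul_eq_mul, smul_eq_mul] at h1
      linear_combination h1
    have ha : a = G₁.trace / 2 - b * (G₁.trace / 2) := by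
      field_simp
      linear_combination -htr
    have h4 : (φ h : Matrix (Fin 2) (Fin 2) F) * G₁ =
        (a • (1 : Matrix (Fin 2) (Fin 2) F) + b • G₁) * φ h := by
      rw [← hab, mul_assoc, hinv, mul_one]
    rw [hG₀, mul_sub, h4, mul_smul_comm, mul_one, sub_mul, add_mul, smul_mul_assoc, smul_mul_assoc,
      smul_mul_assoc, one_mul, ha, sub_smul, smul_sub, smul_smul]
    abel
  -- the derived subgroup centralises `g`
  have hGc : ∀ X : Matrix (Fin 2) (Fin 2) F, X * G₀ = G₀ * X → G₁ * X = X * G₁ := fun X e => by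
    have e1 : G₁ = G₀ + (G₁.trace / 2) • (1 : Matrix (Fin 2) (Fin 2) F) := by rw [hG₀, sub_add_cancel]
    rw [e1, add_mul, mul_add, e, smul_mul_assoc, mul_smul_comm, one_mul, mul_one]
  have hfix : ∀ p q : K, (q * p)⁻¹ * (p * q) * g = g * ((q * p)⁻¹ * (p * q)) := by
    intro p q
    obtain ⟨b₁, e₁⟩ := hb p
    obtain ⟨b₂, e₂⟩ := hb q
    have hP : (φ (p * q) : Matrix (Fin 2) (Fin 2) F) * G₀ = (b₂ * b₁) • (G₀ * φ (p * q)) := by
      rw [map_mul, Units.val_mul, mul_assoc, e₂, mul_smul_comm, ← mul_assoc, e₁, smul_mul_assoc, smul_smul,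
        mul_assoc]
    have hQ : (φ (q * p) : Matrix (Fin 2) (Fin 2) F) * G₀ = (b₂ * b₁) • (G₀ * φ (q * p)) := by
      rw [map_mul, Units.val_mul, mul_assoc, e₁, mul_smul_comm, ← mul_assoc, e₂, smul_mul_assoc, smul_smul,
        mul_assoc, mul_comm b₁]
    set Q : Matrix (Fin 2) (Fin 2) F := (φ (q * p) : Matrix (Fin 2) (Fin 2) F)
    set Q' : Matrix (Fin 2) (Fin 2) F := ((φ (q * p)⁻¹ : GL (Fin 2) F) : Matrix (Fin 2) (Fin 2) F) with hQ'd
    have h1 : Q' * Q = 1 := by
      rw [hQ'd, ← Units.val_mul, ← map_mul, inv_mul_cancel, map_one, Units.val_one]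
    have h1' : Q * Q' = 1 := by
      rw [hQ'd, ← Units.val_mul, ← map_mul, mul_inv_cancel, map_one, Units.val_one]
    have hQ' : G₀ * Q' = (b₂ * b₁) • (Q' * G₀) := by
      calc G₀ * Q' = Q' * (Q * G₀) * Q' := by rw [← mul_assoc Q' Q G₀, h1, one_mul]
        _ = _ := by rw [hQ, mul_smul_comm, smul_mul_assoc, ← mul_assoc, mul_assoc _ Q Q', h1', mul_one]
    refine hinj ?_
    rw [map_mul φ ((q * p)⁻¹ * (p * q)) g, map_mul φ g ((q * p)⁻¹ * (p * q)), Units.val_mul, Units.val_mul]
    refine (hGc _ ?_).symm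
    rw [map_mul φ (q * p)⁻¹ (p * q), Units.val_mul, ← hQ'd, mul_assoc, hP, mul_smul_comm, ← mul_assoc, ← smul_mul_assoc, ← hQ', mul_assoc]
  have hder : commutator K ≤ centralizer ({g} : Set K) := by
    rw [_root_.commutator_def, commutator_le]
    intro p _ q _
    have h := hfix p⁻¹ q⁻¹
    rw [mem_centralizer_singleton_iff, show ⁅p, q⁆ = (q⁻¹ * p⁻¹)⁻¹ * (p⁻¹ * q⁻¹) by
      rw [commutatorElement_def]; group]
    exact h
  refine hmeta ?_
  rw [derivedSeries_succ, derivedSeries_one, eq_bot_iff, commutator_le]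
  intro p hp q hq
  rw [mem_bot, commutatorElement_eq_one_iff_mul_comm]
  have hp' := congrArg (fun x => (φ x : Matrix (Fin 2) (Fin 2) F)) (mem_centralizer_singleton_iff.1 (hder hp))
  have hq' := congrArg (fun x => (φ x : Matrix (Fin 2) (Fin 2) F)) (mem_centralizer_singleton_iff.1 (hder hq))
  simp only [map_mul, Units.val_mul] at hp' hq'
  obtain ⟨a, b, hab⟩ := exists_coeff_of_commute hgns hp'.symm
  obtain ⟨a', b', hab'⟩ := exists_coeff_of_commute hgns hq'.symm
  refine hinj ?_
  rw [map_mul, map_mul, Units.val_mul, Units.val_mul, hab, hab']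
  simp only [add_mul, mul_add, smul_mul_assoc, mul_smul_comm, one_mul, mul_one, smul_smul, smul_add]
  rw [mul_comm a' a, mul_comm b' a, mul_comm a' b, mul_comm b' b]
  abel

/-- The two elementary transvections generating `SL₂` do not commute. -/
theorem sl2_not_comm (F : Type v) [Field F] :
    ∃ a b : Matrix.SpecialLinearGroup (Fin 2) F, a * b ≠ b * a := by
  refine ⟨⟨!![1, 1; 0, 1], by simp [Matrix.det_fin_two]⟩, ⟨!![1, 0; 1, 1], by simp [Matrix.det_fin_two]⟩,
    fun e => ?_⟩
  have h1 : ∀ i j : Fin 2, (Matrix.of ![![1, 1], ![0, 1]] * Matrix.of ![![1, 0], ![1, 1]] :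
      Matrix (Fin 2) (Fin 2) F) i j = (Matrix.of ![![1, 0], ![1, 1]] * Matrix.of ![![1, 1], ![0, 1]] :
      Matrix (Fin 2) (Fin 2) F) i j := fun i j => congrFun (congrFun (congrArg Subtype.val e) i) j
  have h2 := h1 0 0
  simp [Matrix.mul_apply, Fin.sum_univ_two] at h2

/-- A centraliser whose commutator subgroup modulo the odd core is `SL₂` is not metabelian. -/
theorem derived_two_ne_bot {C : Type u} [Group C] [Finite C]
    (h : ∃ (F : Type) (_ : Field F) (_ : Fintype F), Odd (Fintype.card F) ∧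
      Nonempty (↥(commutator (C ⧸ Cfsg.oddCore C)) ≃* Matrix.SpecialLinearGroup (Fin 2) F)) :
    derivedSeries C 2 ≠ ⊥ := by
  obtain ⟨F, i1, i2, -, ⟨e⟩⟩ := h
  haveI : (Cfsg.oddCore C).Normal := Grp.pPrimeCore_isNormal
  intro h0
  have h1 := map_derivedSeries_eq (QuotientGroup.mk'_surjective (Cfsg.oddCore C)) 2
  rw [h0, Subgroup.map_bot, derivedSeries_succ, derivedSeries_one] at h1
  obtain ⟨a, b, hab⟩ := sl2_not_comm F
  refine hab ?_
  have hc : ⁅((e.symm a : _) : C ⧸ Cfsg.oddCore C), ((e.symm b : _) : C ⧸ Cfsg.oddCore C)⁆ ∈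
      (⊥ : Subgroup (C ⧸ Cfsg.oddCore C)) := h1 ▸ commutator_mem_commutator (e.symm a).2 (e.symm b).2
  rw [mem_bot, commutatorElement_eq_one_iff_mul_comm] at hc
  exact e.symm.injective (by rw [map_mul, map_mul]; exact Subtype.ext hc)

/-- In a quotient of a subgroup of `SL₃` by an odd central subgroup, the odd core of a non-metabelian
involution centraliser is central in it. -/
theorem core_central_of_cover {L : Type u} [Group L] [Finite L] {Γ : Type v} [Group Γ] [Finite Γ]
    {F : Type} [Field F] (h2 : (2 : F) ≠ 0) (π : Γ →* L) (hπ : Function.Surjective π)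
    (hker : π.ker ≤ Subgroup.center Γ) (hodd : Odd (Nat.card π.ker))
    (ι : Γ →* Matrix.SpecialLinearGroup (Fin 3) F) (hι : Function.Injective ι) (v : L) (hv : orderOf v = 2)
    (hmeta : derivedSeries ↥(centralizer ({v} : Set L)) 2 ≠ ⊥) :
    ∀ w ∈ Cfsg.centralizerPPrimeCore 2 v, ∀ c ∈ centralizer ({v} : Set L), c * w = w * c := by
  haveI : Fact (Nat.Prime 2) := ⟨Nat.prime_two⟩
  -- an involution over `v`
  obtain ⟨s₀, rfl⟩ := hπ v
  have hk : s₀ * s₀ ∈ π.ker := by
    rw [MonoidHom.mem_ker, map_mul, ← pow_two, ← hv, pow_orderOf_eq_one]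
  obtain ⟨⟨j, hj⟩, hjk⟩ := (powCoprime (Nat.coprime_two_right.2 hodd : (Nat.card π.ker).Coprime 2)).surjective
    ⟨_, hk⟩
  have hj2 : j * j = s₀ * s₀ := by
    have := congrArg Subtype.val hjk
    simpa [powCoprime, pow_two] using this
  set s : Γ := s₀ * j⁻¹ with hs
  have hss : s * s = 1 := by
    have hcm : j⁻¹ * s₀ = s₀ * j⁻¹ := (mem_center_iff.1 (inv_mem (hker hj)) s₀).symm
    calc s * s = s₀ * (j⁻¹ * s₀) * j⁻¹ := by rw [hs]; group
      _ = s₀ * s₀ * (j * j)⁻¹ := by rw [hcm]; group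
      _ = 1 := by rw [hj2, mul_inv_cancel]
  have hπs : π s = π s₀ := by rw [hs, map_mul, map_inv, MonoidHom.mem_ker.1 hj, inv_one, mul_one]
  set C : Subgroup Γ := centralizer ({s} : Set Γ) with hC
  let f : C →* ↥(centralizer ({π s₀} : Set L)) := (π.comp C.subtype).codRestrict _ fun c =>
    mem_centralizer_singleton_iff.2 (by
      rw [← hπs, MonoidHom.comp_apply, ← map_mul, ← map_mul]
      exact congrArg π (mem_centralizer_singleton_iff.1 c.2))
  have hf : Function.Surjective f := by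
    rintro ⟨y, hy⟩
    obtain ⟨g, rfl⟩ := hπ y
    have hy' := mem_centralizer_singleton_iff.1 hy
    rw [← hπs] at hy'
    set k : Γ := g * s * g⁻¹ * s⁻¹ with hkd
    have hkk : k ∈ π.ker := by
      rw [MonoidHom.mem_ker, hkd, map_mul, map_mul, map_mul, map_inv, map_inv, hy']
      group
    have hgs : g * s * g⁻¹ = k * s := by rw [hkd]; group
    have hk2 : k * k = 1 := by
      have e : (k * s) * (k * s) = 1 := by
        rw [← hgs, show g * s * g⁻¹ * (g * s * g⁻¹) = g * (s * s) * g⁻¹ by group, hss, mul_one, mul_inv_cancel]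
      calc k * k = k * k * (s * s) := by rw [hss, mul_one]
        _ = k * (k * s) * s := by group
        _ = k * (s * k) * s := by rw [mem_center_iff.1 (hker hkk) s]
        _ = 1 := by rw [← e]; group
    have hk1 : k = 1 := orderOf_eq_one_iff.1 (Nat.eq_one_of_dvd_coprimes (Nat.coprime_two_left.2 hodd)
      (orderOf_dvd_of_pow_eq_one (by rw [pow_two, hk2])) (π.ker.orderOf_dvd_natCard hkk))
    rw [hk1, one_mul] at hgs
    exact ⟨⟨g, mem_centralizer_singleton_iff.2 (mul_inv_eq_iff_eq_mul.1 hgs)⟩, rfl⟩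
  have hmC : derivedSeries C 2 ≠ ⊥ := fun e => hmeta (by
    rw [← map_derivedSeries_eq hf, e, Subgroup.map_bot])
  -- the embedding in `GL₂`
  have hs1 : ι s ≠ 1 := fun e => by
    rw [← map_one ι] at e
    rw [← hπs, hι e, map_one, orderOf_one] at hv
    omega
  obtain ⟨P, hP⟩ := Psl3C.exists_conj_dInv h2 (s := ι s) (by rw [← map_mul, hss, map_one]) hs1
  have hd : Psl3C.dInv = P⁻¹ * ι s * P := by rw [mul_assoc, hP, inv_mul_cancel_left]
  have hblk : ∀ c : C, ∃ A : GL (Fin 2) F, Psl3C.blkHom A = P⁻¹ * ι (c : Γ) * P := fun c => by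
    refine Psl3C.exists_blk_of_commute h2 ?_
    have e : ι (c : Γ) * ι s = ι s * ι (c : Γ) := by
      rw [← map_mul, ← map_mul, mem_centralizer_singleton_iff.1 c.2]
    rw [hd]
    calc P⁻¹ * ι (c : Γ) * P * (P⁻¹ * ι s * P) = P⁻¹ * (ι (c : Γ) * ι s) * P := by group
      _ = P⁻¹ * (ι s * ι (c : Γ)) * P := by rw [e]
      _ = _ := by group
  choose ψ hψ using hblk
  have hψm : ∀ a b : C, ψ (a * b) = ψ a * ψ b := fun a b => Psl3C.blkHom_injective (by
    rw [map_mul, hψ, hψ, hψ, Subgroup.coe_mul, map_mul]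
    group)
  let φ : C →* GL (Fin 2) F := MonoidHom.mk' ψ hψm
  have hφ : Function.Injective φ := fun a b e => by
    have h := congrArg Psl3C.blkHom (show ψ a = ψ b from e)
    rw [hψ, hψ, mul_left_inj, mul_right_inj] at h
    exact Subtype.ext (hι h)
  rintro _ ⟨w, hw, rfl⟩ c hc
  set O : Subgroup ↥(centralizer ({π s₀} : Set L)) := Cfsg.pPrimeCore 2 _
  haveI : O.Normal := Grp.pPrimeCore_isNormal
  have hO : Odd (Nat.card (O.comap f)) := by
    have hfk : Nat.card f.ker ∣ Nat.card π.ker := by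
      refine Subgroup.card_dvd_of_injective
        ((C.subtype.comp f.ker.subtype).codRestrict π.ker fun x => ?_) ?_
      · exact MonoidHom.mem_ker.2 (congrArg Subtype.val (MonoidHom.mem_ker.1 x.2))
      · exact fun a b e => Subtype.ext (Subtype.ext (congrArg (fun t : π.ker => (t : Γ)) e))
    have hfo : Odd (Nat.card f.ker) := hodd.of_dvd_nat hfk
    have hOo : Odd (Nat.card O) := Nat.coprime_two_right.1 (Grp.pPrimeCore_coprime (p := 2))
    have hle : f.ker ≤ O.comap f := fun x hx => by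
      rw [mem_comap, MonoidHom.mem_ker.1 hx]; exact one_mem _
    rw [← card_mul_index (f.ker.subgroupOf (O.comap f)),
      Nat.card_congr (subgroupOfEquivOfLe hle).toEquiv]
    refine hfo.mul (hOo.of_dvd_nat ?_)
    have e := relIndex_ker (f := f) (O.comap f)
    rw [relIndex] at e
    rw [e]
    exact Subgroup.card_dvd_of_le (map_comap_le _ _)
  obtain ⟨x, hx⟩ := hf w
  obtain ⟨y, hy⟩ := hf ⟨c, hc⟩
  have hcen := odd_normal_central_of_gl2 h2 φ hφ hmC (O.comap f) hO x (mem_comap.2 (hx ▸ hw)) y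
  have := congrArg f hcen
  rw [map_mul, map_mul, hx, hy] at this
  exact congrArg Subtype.val this

theorem two_ne_zero_of_odd {F : Type v} [Field F] [Fintype F] (h : Odd (Fintype.card F)) : (2 : F) ≠ 0 :=
  Ring.two_ne_zero fun e => Nat.not_even_iff_odd.2 h
    (Nat.even_iff.2 (FiniteField.even_card_iff_char_two.1 e))

theorem ker_comp_equiv {A : Type v} {B : Type*} {C : Type u} [Group A] [Group B] [Group C] (e : B ≃* C) (f : A →* B) :
    (e.toMonoidHom.comp f).ker = f.ker := by
  ext x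
  simp [MonoidHom.mem_ker]

/-- The odd cores of involution centralisers are central in them. -/
theorem core_central_of_cases {L : Type u} [Group L] [Finite L] (S : Sylow 2 L)
    (hS : Cfsg.IsQuasiDihedral (S : Subgroup L) ∨ Cfsg.IsWreathed (S : Subgroup L))
    (hG : ∀ H : Subgroup L, H.index ≠ 2) (hone : ∀ a b : L, orderOf a = 2 → orderOf b = 2 → IsConj a b)
    (h : (∃ (F : Type) (_ : Field F) (_ : Fintype F), Odd (Fintype.card F) ∧
        Nonempty (L ≃* Matrix.ProjectiveSpecialLinearGroup (Fin 3) F)) ∨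
      (∃ (F : Type) (_ : Field F) (_ : Fintype F) (q : ℕ), Fintype.card F = q ^ 2 ∧ Odd q ∧
        Nonempty (L ≃* Cfsg.PSU 3 F q)) ∨
      Cfsg.IsM11 L) (v : L) (hv : orderOf v = 2) :
    ∀ w ∈ Cfsg.centralizerPPrimeCore 2 v, ∀ c ∈ centralizer ({v} : Set L), c * w = w * c := by
  haveI : Fact (Nat.Prime 2) := ⟨Nat.prime_two⟩
  have h1240 := Cfsg.Agent.S1240.result S hS hG hone v hv
  have hmeta := derived_two_ne_bot h1240
  rcases h with ⟨F, i1, i2, hF, ⟨e⟩⟩ | ⟨F, i1, i2, q, hq, hqo, ⟨e⟩⟩ | hM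
  · haveI : Finite (Matrix.SpecialLinearGroup (Fin 3) F) := inferInstance
    refine core_central_of_cover (two_ne_zero_of_odd hF)
      (e.symm.toMonoidHom.comp (QuotientGroup.mk' (Subgroup.center (Matrix.SpecialLinearGroup (Fin 3) F))))
      (e.symm.surjective.comp (QuotientGroup.mk'_surjective _)) ?_ ?_ (MonoidHom.id _) Function.injective_id
      v hv hmeta
    · rw [ker_comp_equiv, QuotientGroup.ker_mk']
    · rw [ker_comp_equiv, QuotientGroup.ker_mk', Classical.natCard_center_SL, show max 3 1 = 3 from rfl]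
      exact (by decide : Odd 3).of_dvd_nat (Nat.gcd_dvd_left _ _)
  · haveI : Finite (Cfsg.SU 3 F q) := inferInstance
    refine core_central_of_cover (F := F) (two_ne_zero_of_odd (by rw [hq]; exact hqo.pow))
      (e.symm.toMonoidHom.comp (QuotientGroup.mk' (Subgroup.center (Cfsg.SU 3 F q))))
      (e.symm.surjective.comp (QuotientGroup.mk'_surjective _)) ?_ ?_ (Cfsg.SU 3 F q).subtype
      (Subgroup.subtype_injective _) v hv hmeta
    · rw [ker_comp_equiv, QuotientGroup.ker_mk']
    · rw [ker_comp_equiv, QuotientGroup.ker_mk', Classical.natCard_center_SU hq (by norm_num)]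
      exact (by decide : Odd 3).of_dvd_nat (Nat.gcd_dvd_left _ _)
  · intro w hw c _
    have h48 := Cfsg.Agent.S0435.result hM v hv
    set C := centralizer ({v} : Set L) with hC
    obtain ⟨w', hw', rfl⟩ := hw
    suffices h1 : Cfsg.oddCore C = ⊥ by
      change w' ∈ Cfsg.oddCore C at hw'
      rw [h1, mem_bot] at hw'
      rw [hw', map_one, mul_one, one_mul]
    haveI : (Cfsg.oddCore C).Normal := Grp.pPrimeCore_isNormal
    obtain ⟨F, i1, i2, hF, ⟨e⟩⟩ := h1240
    have hodd : Odd (Nat.card (Cfsg.oddCore C)) :=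
      Nat.coprime_two_right.1 (Grp.pPrimeCore_coprime (p := 2))
    have hdvd : Nat.card (Cfsg.oddCore C) ∣ 3 := by
      have h3 : Nat.card (Cfsg.oddCore C) ∣ 16 * 3 := by
        rw [show 16 * 3 = Nat.card C from h48.symm]; exact Subgroup.card_subgroup_dvd_card _
      exact (Nat.Coprime.pow_left 4 (Nat.coprime_two_left.2 hodd)).symm.dvd_of_dvd_mul_left h3
    rcases (Nat.dvd_prime Nat.prime_three).1 hdvd with h3 | h3
    · exact Subgroup.card_eq_one.1 h3
    exfalso
    have h16 : Nat.card (C ⧸ Cfsg.oddCore C) = 16 := by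
      have := (Cfsg.oddCore C).card_eq_card_quotient_mul_card_subgroup
      rw [h48, h3] at this
      omega
    -- a transvection of odd prime order
    obtain ⟨p, hp⟩ := CharP.exists F
    haveI := hp
    have hpp : p.Prime := CharP.char_is_prime F p
    let T : Matrix.SpecialLinearGroup (Fin 2) F := ⟨!![1, 1; 0, 1], by simp [Matrix.det_fin_two]⟩
    have hT : ∀ k : ℕ, ((T ^ k : Matrix.SpecialLinearGroup (Fin 2) F) : Matrix (Fin 2) (Fin 2) F) =
        !![1, (k : F); 0, 1] := by
      intro k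
      induction k with
      | zero => ext i j; fin_cases i <;> fin_cases j <;> simp
      | succ k ih =>
        rw [pow_succ, Matrix.SpecialLinearGroup.coe_mul, ih]
        show !![1, (k : F); 0, 1] * !![1, 1; 0, 1] = _
        ext i j
        fin_cases i <;> fin_cases j <;> simp [Matrix.mul_apply, Fin.sum_univ_two, add_comm]
    have hop : orderOf T = p := by
      refine orderOf_eq_prime (hp := ⟨hpp⟩) (Subtype.ext ?_) fun e1 => ?_
      · rw [hT, CharP.cast_eq_zero]; ext i j; fin_cases i <;> fin_cases j <;> simp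
      · have := congrFun (congrFun (congrArg Subtype.val e1) 0) 1
        simp [T] at this
    have hd : p ∣ 16 := by
      rw [← hop, ← h16, ← orderOf_injective e.symm.toMonoidHom e.symm.injective T]
      exact (_root_.orderOf_dvd_natCard _).trans (Subgroup.card_subgroup_dvd_card _)
    have hp2 : p = 2 := (Nat.prime_dvd_prime_iff_eq hpp Nat.prime_two).1
      (hpp.dvd_of_dvd_pow (show p ∣ 2 ^ 4 by simpa using hd))
    subst hp2
    exact two_ne_zero_of_odd hF (CharTwo.two_eq_zero)

end Cfsg.Agent.Invol.AbgConsumers
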