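import Cfsg.Agent.Lib.Invol.AbgConsumers.StrongEmb
import Cfsg.Agent.Lib.Grp.CoprimeAbelian
import Cfsg.Agent.Lib.Grp.BalanceReduction

/-!
# Odd subgroups normalised by a Sylow 2-subgroup of a simple normal subgroup

If the fixed points of the involutions of the Sylow subgroup lie in the odd cores of their centralisers,
and the odd cores of the involution centralisers of the simple group are central there, then the odd
subgroup is trivial.
-/

set_option autoImplicit false
set_option linter.style.haveILetI false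

namespace Cfsg.Agent.Invol.AbgConsumers

open Subgroup

universe u

variable {Y : Type u} [Group Y] [Finite Y] {L : Subgroup Y}

/-- A commutator of the odd core of a centraliser with a subgroup element lies in the odd core there. -/
theorem commutator_mem_core [hL : L.Normal] {u c : L} (hc : c ∈ centralizer ({u} : Set L)) {n : Y}
    (hn : n ∈ Cfsg.centralizerPPrimeCore 2 (u : Y)) :
    ∃ w ∈ Cfsg.centralizerPPrimeCore 2 u, (w : Y) = n * c * n⁻¹ * (c : Y)⁻¹ := by
  haveI : Fact (Nat.Prime 2) := ⟨Nat.prime_two⟩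
  have hcu : (c : Y) * u = u * c := congrArg Subtype.val (mem_centralizer_singleton_iff.1 hc)
  have hW : (Cfsg.centralizerPPrimeCore 2 (u : Y)).comap L.subtype ≤ Cfsg.centralizerPPrimeCore 2 u := by
    refine Grp.le_centralizerPPrimeCore (fun y hy => Subtype.ext
      (Grp.centralizerPPrimeCore_commute (p := 2) (mem_comap.1 hy))) (fun d hd y hy => ?_) ?_
    · rw [mem_comap, map_mul, map_mul, map_inv]
      exact Grp.centralizerPPrimeCore_conj (p := 2) (congrArg Subtype.val hd) (mem_comap.1 hy)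
    · refine (Grp.centralizerPPrimeCore_coprime (p := 2) (u : Y)).coprime_dvd_left ?_
      exact card_comap_dvd_of_injective _ _ L.subtype_injective
  have hO : n * c * n⁻¹ * (c : Y)⁻¹ ∈ Cfsg.centralizerPPrimeCore 2 (u : Y) := by
    have h := mul_mem hn (Grp.centralizerPPrimeCore_conj (p := 2) hcu (inv_mem hn))
    rwa [show n * ((c : Y) * n⁻¹ * (c : Y)⁻¹) = n * c * n⁻¹ * (c : Y)⁻¹ by group] at h
  have hmem : n * c * n⁻¹ * (c : Y)⁻¹ ∈ L := L.mul_mem (hL.conj_mem c c.2 n) (L.inv_mem c.2)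
  exact ⟨⟨_, hmem⟩, hW (mem_comap.2 hO), rfl⟩

/-- An element of the odd core of a centraliser centralises the 2-elements of the centraliser in the
subgroup, if the odd core is central there. -/
theorem commute_two_element [L.Normal] {u : L}
    (hcen : ∀ w ∈ Cfsg.centralizerPPrimeCore 2 u, ∀ c ∈ centralizer ({u} : Set L), c * w = w * c)
    {n : Y} (hn : n ∈ Cfsg.centralizerPPrimeCore 2 (u : Y)) {c : L} (hc : c ∈ centralizer ({u} : Set L))
    {k : ℕ} (hk : orderOf c = 2 ^ k) : n * c = c * n := by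
  haveI : Fact (Nat.Prime 2) := ⟨Nat.prime_two⟩
  obtain ⟨w, hw, hwe⟩ := commutator_mem_core hc hn
  have hcw : (c : Y) * w = w * c := congrArg Subtype.val (hcen w hw c hc)
  have hconj : n * c * n⁻¹ = (w : Y) * c := by rw [hwe]; group
  have hc1 : c ^ 2 ^ k = 1 := hk ▸ pow_orderOf_eq_one c
  have hcp : (c : Y) ^ 2 ^ k = 1 := by rw [← SubmonoidClass.coe_pow, hc1, OneMemClass.coe_one]
  have hwp : (w : Y) ^ 2 ^ k = 1 := by
    have h : ((w : Y) * c) ^ 2 ^ k = 1 := by
      rw [← hconj, conj_pow, hcp, mul_one, mul_inv_cancel]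
    rwa [(show Commute (w : Y) c from hcw.symm).mul_pow, hcp, mul_one] at h
  have hpow : w ^ 2 ^ k = 1 := Subtype.ext (by rw [SubmonoidClass.coe_pow, hwp, OneMemClass.coe_one])
  have hd : orderOf w ∣ 2 ^ k := orderOf_dvd_of_pow_eq_one hpow
  have ho : (orderOf w).Coprime 2 := (Grp.centralizerPPrimeCore_coprime (p := 2) u).coprime_dvd_left
    ((Cfsg.centralizerPPrimeCore 2 u).orderOf_dvd_natCard hw)
  have hw1 : w = 1 := orderOf_eq_one_iff.1 (Nat.Coprime.eq_one_of_dvd (ho.pow_right k) hd)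
  rw [hw1, Subgroup.coe_one, one_mul] at hconj
  exact mul_inv_eq_iff_eq_mul.1 hconj

variable [L.Normal] [IsSimpleGroup L]

/-- An odd subgroup normalised by a Sylow 2-subgroup of a simple normal subgroup with trivial centraliser,
whose fixed points lie in the odd cores of the centralisers, is trivial. -/
theorem odd_normalized_eq_bot (T : Sylow 2 L)
    (hconj : ∀ a b : L, orderOf a = 2 → orderOf b = 2 → IsConj a b)
    (hAut : IsPGroup 2 (MulAut (T : Subgroup L))) {z : L} (hz : orderOf z = 2)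
    (hzT : z ∈ (T : Subgroup L)) (hzc : ∀ s ∈ (T : Subgroup L), s * z = z * s)
    (hnc : ∃ a ∈ (T : Subgroup L), ∃ b ∈ (T : Subgroup L), orderOf a = 2 ∧ orderOf b = 2 ∧ a * b ≠ b * a)
    (hcen : ∀ v : L, orderOf v = 2 →
      ∀ w ∈ Cfsg.centralizerPPrimeCore 2 v, ∀ c ∈ centralizer ({v} : Set L), c * w = w * c)
    (hCL : ∀ y : Y, (∀ l : L, y * l = l * y) → y = 1)
    (N : Subgroup Y) (hN : Odd (Nat.card N))
    (hTN : ∀ s ∈ (T : Subgroup L), ∀ n ∈ N, (s : Y) * n * (s : Y)⁻¹ ∈ N)
    (hNu : ∀ v ∈ (T : Subgroup L), orderOf v = 2 → ∀ n ∈ N, n * (v : Y) = v * n →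
      n ∈ Cfsg.centralizerPPrimeCore 2 (v : Y)) : N = ⊥ := by
  haveI : Fact (Nat.Prime 2) := ⟨Nat.prime_two⟩
  have hTp : ∀ s ∈ (T : Subgroup L), ∃ k, orderOf s = 2 ^ k := fun s hs => by
    obtain ⟨k, hk⟩ := IsPGroup.iff_orderOf.1 T.isPGroup' ⟨s, hs⟩
    exact ⟨k, by rw [← Subgroup.orderOf_coe] at hk; exact hk⟩
  -- `N` centralises every involution of `T`
  have hinv : ∀ a ∈ (T : Subgroup L), orderOf a = 2 → ∀ n ∈ N, n * (a : Y) = a * n := by
    intro a ha ha2
    obtain ⟨b, hbT, hb2, hab, hne⟩ : ∃ b ∈ (T : Subgroup L), orderOf b = 2 ∧ a * b = b * a ∧ a ≠ b := by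
      by_cases haz : a = z
      · obtain ⟨p, hp, q, hq, hp2, hq2, hpq⟩ := hnc
        exact ⟨p, hp, hp2, by rw [haz, hzc p hp], fun e => hpq (by rw [← e, haz, ← hzc q hq])⟩
      · exact ⟨z, hzT, hz, hzc a ha, haz⟩
    set K : Subgroup L := Subgroup.closure {a, b} with hK
    have hcc : ∀ x ∈ ({a, b} : Set L), ∀ y ∈ ({a, b} : Set L), x * y = y * x := by
      rintro x (rfl | rfl) y (rfl | rfl) <;> first | rfl | exact hab | exact hab.symm
    haveI hKc : IsMulCommutative K := isMulCommutative_closure hcc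
    have hcomm : ∀ x ∈ K, ∀ y ∈ K, x * y = y * x := fun x hx y hy =>
      congrArg Subtype.val (hKc.is_comm.comm (⟨x, hx⟩ : K) ⟨y, hy⟩)
    have hKT : K ≤ T := (closure_le _).2 (by rintro x (rfl | rfl) <;> assumption)
    have hK2 : ∀ x ∈ K, x ^ 2 = 1 := by
      intro x hx
      induction hx using closure_induction with
      | mem x hx => rcases hx with rfl | rfl <;> [rw [← ha2]; rw [← hb2]] <;> exact pow_orderOf_eq_one _
      | one => exact one_pow 2
      | mul p q hp hq ihp ihq => rw [(show Commute p q from hcomm p hp q hq).mul_pow, ihp, ihq, one_mul]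
      | inv p _ ihp => rw [inv_pow, ihp, inv_one]
    set A : Subgroup Y := K.map L.subtype with hA
    haveI : IsMulCommutative A := ⟨⟨by
      rintro ⟨_, x, hx, rfl⟩ ⟨_, y, hy, rfl⟩
      exact Subtype.ext (congrArg L.subtype (hcomm x hx y hy))⟩⟩
    have haA : (a : Y) ∈ A := ⟨a, subset_closure (by simp), rfl⟩
    have hbA : (b : Y) ∈ A := ⟨b, subset_closure (by simp), rfl⟩
    have hncy : ¬ IsCyclic A := fun hcy => by
      obtain ⟨⟨g, hg⟩, hgen⟩ := hcy.exists_generator
      obtain ⟨g', hg', rfl⟩ := id hg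
      have hgg : (⟨_, hg⟩ : A) ^ 2 = 1 := Subtype.ext (congrArg L.subtype (hK2 g' hg'))
      have hgcase : ∀ x : A, x ≠ 1 → x = ⟨_, hg⟩ := fun x hx => by
        obtain ⟨i, rfl⟩ := mem_zpowers_iff.1 (hgen x)
        obtain ⟨j, hj | hj⟩ := Int.even_or_odd' i
        · exfalso
          refine hx ?_
          rw [hj, _root_.zpow_mul, zpow_ofNat, hgg, one_zpow]
        · rw [hj, _root_.zpow_add, _root_.zpow_mul, zpow_ofNat, hgg, one_zpow, one_mul, zpow_one]
      have h1 : ∀ x : L, orderOf x = 2 → (x : Y) ≠ 1 := fun x hx e => by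
        rw [OneMemClass.coe_eq_one] at e
        rw [e, orderOf_one] at hx
        omega
      have ea := hgcase ⟨_, haA⟩ fun e => h1 a ha2 (congrArg Subtype.val e)
      have eb := hgcase ⟨_, hbA⟩ fun e => h1 b hb2 (congrArg Subtype.val e)
      exact hne (Subtype.ext (congrArg (fun t : A => (t : Y)) (ea.trans eb.symm)))
    have hAN : A ≤ normalizer (N : Set Y) := by
      rintro _ ⟨x, hx, rfl⟩
      refine mem_normalizer_iff.2 fun m => ⟨hTN x (hKT hx) m, fun hm => ?_⟩
      have := hTN x⁻¹ (inv_mem (hKT hx)) _ hm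
      simp only [Subgroup.coe_inv, inv_inv, Subgroup.coe_subtype] at this
      rwa [show (x : Y)⁻¹ * ((x : Y) * m * (x : Y)⁻¹) * x = m by group] at this
    have hcop : (Nat.card A).Coprime (Nat.card N) := by
      have hAp : IsPGroup 2 A := fun ⟨y, hy⟩ => by
        obtain ⟨x, hx, rfl⟩ := hy
        exact ⟨1, Subtype.ext (congrArg L.subtype (hK2 x hx))⟩
      obtain ⟨k, hk⟩ := IsPGroup.iff_card.1 hAp
      rw [hk]
      exact (Nat.coprime_two_left.2 hN).pow_left k
    have hle : N ≤ centralizer ({(a : Y)} : Set Y) := by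
      rw [← Grp.generated_by_centralizers A N hncy hAN hcop]
      refine iSup₂_le fun y hy n hn => ?_
      obtain ⟨⟨x, hx, rfl⟩, hx1⟩ := hy
      obtain ⟨hnN, hnc'⟩ := mem_inf.1 hn
      have hx2 : orderOf x = 2 := orderOf_eq_prime (hK2 x hx) fun e => hx1 (by rw [e, map_one])
      refine mem_centralizer_singleton_iff.2 (commute_two_element (hcen x hx2)
        (hNu x (hKT hx) hx2 n hnN (mem_centralizer_singleton_iff.1 hnc'))
        (mem_centralizer_singleton_iff.2 (hcomm a (subset_closure (by simp)) x hx)) (k := 1)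
        (by rw [ha2, pow_one]))
    exact fun n hn => mem_centralizer_singleton_iff.1 (hle hn)
  have hcore : ∀ a ∈ (T : Subgroup L), orderOf a = 2 → ∀ n ∈ N, n ∈ Cfsg.centralizerPPrimeCore 2 (a : Y) :=
    fun a ha ha2 n hn => hNu a ha ha2 n hn (hinv a ha ha2 n hn)
  have hZ : Subgroup.center L = ⊥ := by
    refine ((inferInstance : (Subgroup.center L).Normal).eq_bot_or_eq_top).resolve_right fun e => ?_
    obtain ⟨p, -, q, -, -, -, hpq⟩ := hnc
    have hp : p ∈ Subgroup.center L := e ▸ mem_top p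
    exact hpq (mem_center_iff.1 hp q).symm
  rw [Subgroup.eq_bot_iff_forall]
  intro n hn
  refine hCL n ?_
  set M : Subgroup L := (centralizer ({n} : Set Y)).comap L.subtype with hM
  have hmem : ∀ c : L, c ∈ M ↔ (c : Y) * n = n * c := fun c => by
    rw [hM, mem_comap, mem_centralizer_singleton_iff, Subgroup.coe_subtype]
  have h2el : ∀ v ∈ (T : Subgroup L), orderOf v = 2 → ∀ c ∈ centralizer ({v} : Set L),
      (∃ k, orderOf c = 2 ^ k) → c ∈ M := by
    rintro v hv hv2 c hc ⟨k, hk⟩
    exact (hmem c).2 (commute_two_element (hcen v hv2) (hcore v hv hv2 n hn) hc hk).symm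
  -- the centraliser of `T`
  have hCT : centralizer ((T : Subgroup L) : Set L) ≤ M := by
    intro c hc
    have hcv : ∀ v ∈ (T : Subgroup L), c ∈ centralizer ({v} : Set L) := fun v hv =>
      centralizer_le (Set.singleton_subset_iff.2 hv) hc
    obtain ⟨w, -, hwe⟩ := commutator_mem_core (hcv z hzT) (hcore z hzT hz n hn)
    have hwD : ∀ v ∈ (T : Subgroup L), orderOf v = 2 → w ∈ Cfsg.centralizerPPrimeCore 2 v := by
      intro v hv hv2
      obtain ⟨w', hw', hwe'⟩ := commutator_mem_core (hcv v hv) (hcore v hv hv2 n hn)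
      rwa [show w = w' from Subtype.ext (hwe.trans hwe'.symm)]
    have htop := eq_top_of_centralizers T hconj hAut hz hzT hzc hnc (centralizer ({w} : Set L))
      fun v hv hv2 d hd => mem_centralizer_singleton_iff.2 (hcen v hv2 w (hwD v hv hv2) d hd)
    have hw : w ∈ Subgroup.center L := mem_center_iff.2 fun g => by
      have : g ∈ centralizer ({w} : Set L) := htop ▸ mem_top g
      exact mem_centralizer_singleton_iff.1 this
    rw [hZ, mem_bot] at hw
    rw [hw, Subgroup.coe_one] at hwe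
    exact (hmem c).2 ((mul_inv_eq_iff_eq_mul.1 (mul_inv_eq_one.1 hwe.symm)).symm)
  have hCz : centralizer ({z} : Set L) ≤ M :=
    centralizer_le_of_two_elements T hAut (fun s hs => mem_centralizer_singleton_iff.2 (hzc s hs))
      (h2el z hzT hz) hCT
  have htop : M = ⊤ := by
    refine eq_top_of_centralizers T hconj hAut hz hzT hzc hnc M fun v hv hv2 => ?_
    obtain ⟨g, hg⟩ := isConj_iff.1 (hconj z v hz hv2)
    have hgT : ((g • T : Sylow 2 L) : Subgroup L) ≤ centralizer ({v} : Set L) := by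
      rw [Sylow.coe_subgroup_smul]
      intro y hy
      obtain ⟨s, hs, rfl⟩ := mem_smul_pointwise_iff_exists _ _ _ |>.1 hy
      refine mem_centralizer_singleton_iff.2 ?_
      show g * s * g⁻¹ * v = v * (g * s * g⁻¹)
      rw [← hg]
      calc g * s * g⁻¹ * (g * z * g⁻¹) = g * (s * z) * g⁻¹ := by group
        _ = g * (z * s) * g⁻¹ := by rw [hzc s hs]
        _ = g * z * g⁻¹ * (g * s * g⁻¹) := by group
    have hzv : z ∈ centralizer ({v} : Set L) := mem_centralizer_singleton_iff.2 (hzc v hv).symm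
    obtain ⟨h, hh⟩ := exists_conj_mem_sylow
      (x := (⟨z, hzv⟩ : centralizer ({v} : Set L))) (n := 1) (by rw [Subgroup.orderOf_mk, hz, pow_one])
      ((g • T).subtype hgT)
    have hh' : h * (⟨z, hzv⟩ : centralizer ({v} : Set L)) * h⁻¹ ∈
        (((g • T).subtype hgT : Sylow 2 _) : Subgroup (centralizer ({v} : Set L))) := hh
    rw [Sylow.coe_subtype, mem_subgroupOf] at hh'
    set R : Sylow 2 L := (h : L)⁻¹ • (g • T) with hR
    have hRmem : ∀ x : L, x ∈ (R : Subgroup L) ↔ (h : L) * x * (h : L)⁻¹ ∈ ((g • T : Sylow 2 L) : Subgroup L) := by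
      intro x
      rw [hR, Sylow.coe_subgroup_smul]
      constructor
      · intro hx
        obtain ⟨s, hs, rfl⟩ := mem_smul_pointwise_iff_exists _ _ _ |>.1 hx
        rw [show (h : L) * (MulAut.conj (h : L)⁻¹ • s) * (h : L)⁻¹ = s by
          show (h : L) * ((h : L)⁻¹ * s * (h : L)⁻¹⁻¹) * (h : L)⁻¹ = s
          group]
        exact hs
      · intro hx
        refine mem_smul_pointwise_iff_exists _ _ _ |>.2 ⟨_, hx, ?_⟩
        show (h : L)⁻¹ * ((h : L) * x * (h : L)⁻¹) * (h : L)⁻¹⁻¹ = x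
        group
    have hRv : (R : Subgroup L) ≤ centralizer ({v} : Set L) := fun x hx => by
      have := hgT ((hRmem x).1 hx)
      have := (centralizer ({v} : Set L)).mul_mem
        ((centralizer ({v} : Set L)).mul_mem ((centralizer ({v} : Set L)).inv_mem h.2) this) h.2
      rwa [show (h : L)⁻¹ * ((h : L) * x * (h : L)⁻¹) * h = x by group] at this
    have hzR : z ∈ (R : Subgroup L) := (hRmem z).2 hh'
    exact centralizer_le_of_two_elements R (aut_of_sylow T R hAut) hRv (h2el v hv hv2)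
      ((centralizer_le (Set.singleton_subset_iff.2 hzR)).trans hCz)
  intro l
  exact ((hmem l).1 (htop ▸ mem_top l)).symm

end Cfsg.Agent.Invol.AbgConsumers
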