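import Cfsg.Agent.Lib.Invol.AbgConsumers.RankTwo
import Cfsg.Agent.Lib.Invol.AbgConsumers.WeakCore
import Cfsg.Agent.Lib.Invol.AbgConsumers.CentCentral
import Cfsg.Agent.Lib.Invol.RealizeWreathedLocal
import Cfsg.Agent.S1213
import Cfsg.Agent.S1214
import Cfsg.Agent.S3116

/-!
# The core of a weakly embedded subgroup

The odd core of a weakly embedded subgroup of a group with quasi-dihedral or wreathed Sylow 2-subgroups
and no subgroup of index two lies in the odd core of the group.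
-/

set_option autoImplicit false
set_option linter.style.haveILetI false

namespace Cfsg.Agent.Invol.AbgConsumers

open Subgroup

universe u

/-- A central involution, two involutions that do not commute, and a 2-group of automorphisms. -/
theorem sylow_facts {P : Type u} [Group P] [Finite P]
    (hP : Cfsg.IsQuasiDihedral P ∨ Cfsg.IsWreathed P) :
    (∃ z : P, orderOf z = 2 ∧ ∀ s, s * z = z * s) ∧
      (∃ a b : P, orderOf a = 2 ∧ orderOf b = 2 ∧ a * b ≠ b * a) ∧ IsPGroup 2 (MulAut P) := by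
  haveI : Fact (Nat.Prime 2) := ⟨Nat.prime_two⟩
  rcases hP with hP | hP
  · obtain ⟨n, x, y, h⟩ := exists_qd hP
    refine ⟨⟨_, h.orderOf_z, h.z_central⟩, ⟨x * y * x⁻¹, y, by rw [orderOf_conj_eq, h.oy], h.oy, fun e => ?_⟩,
      Cfsg.Agent.S3116.result (IsPGroup.of_card h.card) (Or.inr hP)⟩
    have hx : x * y * x⁻¹ = x ^ ((1 : ℤ) + (-1) * (2 * qq n - 1)) * y := by
      rw [mul_assoc, ← zpow_neg_one x, h.y_mul_zpow, ← mul_assoc, _root_.zpow_add, zpow_one]
    rw [hx, mul_assoc, h.y_mul_self, mul_one, ← mul_assoc, h.y_mul_zpow, mul_assoc, h.y_mul_self,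
      mul_one, h.zpow_eq] at e
    obtain ⟨d, hd⟩ := e
    obtain ⟨r, hr⟩ := h.qq_even
    have hpos := h.qq_pos
    have e1 : (qq n - 1) ^ 2 = qq n * d :=
      mul_left_cancel₀ (show (4 : ℤ) ≠ 0 by norm_num) (by linear_combination hd)
    have e2 : qq n ∣ 1 := ⟨d - qq n + 2, by linear_combination e1⟩
    have := Int.le_of_dvd one_pos e2
    omega
  · obtain ⟨n, x, y, z, h⟩ := exists_wr hP
    refine ⟨⟨_, h.orderOf_w, fun s => ?_⟩, ⟨z, h.el (hh n) 0, h.oz, h.orderOf_half, fun e => ?_⟩,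
      h.isPGroup_mulAut⟩
    · exact mem_center_iff.1 (h.mem_center_el.2 ⟨0, by ring⟩ : h.el (hh n) (hh n) ∈ _) s
    · rw [h.z_el] at e
      obtain ⟨⟨d, hd⟩, -⟩ := h.el_eq.1 (mul_right_cancel e)
      have := h.hh_pos
      rcases le_or_gt 0 d with hd0 | hd0
      · rcases hd0.eq_or_lt with rfl | hd1
        · omega
        · nlinarith
      · nlinarith

/-- All involutions are conjugate. -/
theorem all_conj_of_no_index_two {G : Type u} [Group G] [Finite G] (S : Sylow 2 G)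
    (hS : Cfsg.IsQuasiDihedral (S : Subgroup G) ∨ Cfsg.IsWreathed (S : Subgroup G))
    (hG : ∀ H : Subgroup G, H.index ≠ 2) (a b : G) (ha : orderOf a = 2) (hb : orderOf b = 2) : IsConj a b := by
  rcases hS with hS | hS
  · obtain ⟨n, x, y, h⟩ := exists_qd hS
    exact (h.all_conj hG ha).symm.trans (h.all_conj hG hb)
  · obtain ⟨n, x, y, z, h⟩ := exists_wr hS
    exact (h.all_conj hG ha).symm.trans (h.all_conj hG hb)

/-- The square root of an element of odd order. -/
theorem exists_sqrt_of_odd {G : Type u} [Group G] [Finite G] {d : G} (h : Odd (orderOf d)) :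
    ∃ j : ℕ, d ^ j * d ^ j = d := by
  obtain ⟨k, hk⟩ := h
  refine ⟨k + 1, ?_⟩
  rw [← pow_add, show k + 1 + (k + 1) = orderOf d + 1 by omega, pow_succ, pow_orderOf_eq_one, one_mul]

variable {X : Type u} [Group X] [Finite X]

/-- An element fixed modulo a normal odd subgroup by an involution can be corrected to a fixed one. -/
theorem exists_fixed_lift {D : Subgroup X} [D.Normal] (hD : Odd (Nat.card D)) {y n : X} (hy : y * y = 1)
    (h : n⁻¹ * (y * n * y) ∈ D) :
    ∃ j : ℕ, n * (n⁻¹ * (y * n * y)) ^ j * y = y * (n * (n⁻¹ * (y * n * y)) ^ j) := by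
  set d := n⁻¹ * (y * n * y) with hd
  obtain ⟨j, hj⟩ := exists_sqrt_of_odd (hD.of_dvd_nat (D.orderOf_dvd_natCard h))
  refine ⟨j, ?_⟩
  have hyi : y⁻¹ = y := inv_eq_of_mul_eq_one_right hy
  have hyd : y * d * y = d⁻¹ := by
    rw [hd]
    calc y * (n⁻¹ * (y * n * y)) * y = y * n⁻¹ * y * n * (y * y) := by group
      _ = y⁻¹ * n⁻¹ * y⁻¹ * n := by rw [hy, mul_one, hyi]
      _ = (n⁻¹ * (y * n * y))⁻¹ := by group
  have hye : y * d ^ j = (d ^ j)⁻¹ * y := by
    have e : (y * d * y⁻¹) ^ j = y * d ^ j * y⁻¹ := conj_pow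
    rw [hyi, hyd, inv_pow] at e
    rw [e, mul_assoc, hy, mul_one]
  calc n * d ^ j * y = y * (y * n * y) * (y * d ^ j * y) := by
        calc n * d ^ j * y = (y * y) * n * (y * y) * d ^ j * y := by rw [hy, one_mul, mul_one]
          _ = _ := by group
    _ = y * (n * d) * ((d ^ j)⁻¹ * y * y) := by rw [hye, hd, mul_inv_cancel_left]
    _ = y * n * (d * (d ^ j)⁻¹) := by rw [mul_assoc (d ^ j)⁻¹, hy, mul_one]; group
    _ = y * (n * d ^ j) := by
        rw [show d * (d ^ j)⁻¹ = d ^ j from mul_inv_eq_iff_eq_mul.2 hj.symm, mul_assoc]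

/-- A weakly embedded subgroup contains a Sylow subgroup. -/
theorem exists_sylow_le (S : Sylow 2 X)
    (hS : Cfsg.IsQuasiDihedral ↥(S : Subgroup X) ∨ Cfsg.IsWreathed ↥(S : Subgroup X))
    (h2 : ∀ N : Subgroup X, N.index ≠ 2) (H : Subgroup X) {y : X} (hy : y ∈ H) (hy2 : orderOf y = 2)
    (hcov : ∀ c ∈ centralizer ({y} : Set X),
      ∃ h ∈ H ⊓ centralizer ({y} : Set X), ∃ o ∈ Cfsg.centralizerPPrimeCore 2 y, c = h * o) :
    ∃ P : Sylow 2 X, (P : Subgroup X) ≤ H := by
  haveI : Fact (Nat.Prime 2) := ⟨Nat.prime_two⟩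
  set C := centralizer ({y} : Set X) with hC
  obtain ⟨R, hR, -⟩ := Cfsg.Agent.S1213.result S hS h2 y hy2
  haveI : (Cfsg.oddCore C).Normal := Grp.pPrimeCore_isNormal
  have htop : H.subgroupOf C ⊔ Cfsg.oddCore C = ⊤ := by
    refine top_le_iff.1 fun c _ => ?_
    obtain ⟨h, hh, o, ⟨o', ho', rfl⟩, hc⟩ := hcov c c.2
    rw [show c = ⟨h, (mem_inf.1 hh).2⟩ * o' from Subtype.ext hc]
    exact mul_mem_sup (mem_subgroupOf.2 (mem_inf.1 hh).1) ho'
  have hcard : Nat.card C ∣ Nat.card (H.subgroupOf C) * Nat.card (Cfsg.oddCore C) := by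
    rw [← Grp.card_sup_mul_card_inf_normal, htop, Subgroup.card_top]
    exact Dvd.intro _ rfl
  obtain ⟨a, ha⟩ := IsPGroup.iff_card.1 S.isPGroup'
  have h1 : 2 ^ a ∣ Nat.card (H.subgroupOf C) := by
    refine ((Grp.pPrimeCore_coprime (p := 2) (G := C)).symm.pow_left a).dvd_of_dvd_mul_right
      (dvd_trans ?_ hcard)
    rw [← ha, ← hR]
    exact Subgroup.card_subgroup_dvd_card _
  have h3 : 2 ^ a ∣ Nat.card H := by
    refine h1.trans ?_
    rw [← inf_subgroupOf_right, Nat.card_congr (subgroupOfEquivOfLe inf_le_right).toEquiv]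
    exact Subgroup.card_dvd_of_le inf_le_left
  obtain ⟨K, hK⟩ := Sylow.exists_subgroup_card_pow_prime 2 h3
  have hcard : Nat.card (K.map H.subtype) = 2 ^ (Nat.card X).factorization 2 := by
    rw [card_map_of_injective H.subtype_injective, hK, ← ha, S.card_eq_multiplicity]
  exact ⟨Sylow.ofCard _ hcard, map_subtype_le K⟩

/-- The core of a weakly embedded subgroup. -/
theorem weakly_embedded_core (hSD : SDStmt.{u}) (hWr : WrStmt.{u}) (S : Sylow 2 X)
    (hS : Cfsg.IsQuasiDihedral ↥(S : Subgroup X) ∨ Cfsg.IsWreathed ↥(S : Subgroup X))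
    (h2 : ∀ N : Subgroup X, N.index ≠ 2) (H : Subgroup X) (hev : ∃ y ∈ H, orderOf y = 2)
    (hcov : ∀ y ∈ H, orderOf y = 2 → ∀ c ∈ centralizer ({y} : Set X),
      ∃ h ∈ H ⊓ centralizer ({y} : Set X), ∃ o ∈ Cfsg.centralizerPPrimeCore 2 y, c = h * o) :
    (Cfsg.oddCore ↥H).map H.subtype ≤ Cfsg.oddCore X := by
  haveI : Fact (Nat.Prime 2) := ⟨Nat.prime_two⟩
  haveI : (Cfsg.oddCore X).Normal := Grp.pPrimeCore_isNormal
  haveI : (Cfsg.oddCore H).Normal := Grp.pPrimeCore_isNormal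
  obtain ⟨y₀, hy₀, hy₀2⟩ := hev
  obtain ⟨P, hPH⟩ := exists_sylow_le S hS h2 H hy₀ hy₀2 (hcov y₀ hy₀ hy₀2)
  set O := Cfsg.oddCore X with hOdef
  set π := QuotientGroup.mk' O with hπ
  have hπs : Function.Surjective π := QuotientGroup.mk'_surjective O
  have hker : ∀ {g : X}, π g = 1 ↔ g ∈ O := fun {g} => QuotientGroup.eq_one_iff g
  have hOo : Odd (Nat.card O) := Nat.coprime_two_right.1 (Grp.pPrimeCore_coprime (p := 2))
  have hOq : Cfsg.oddCore (X ⧸ O) = ⊥ := Grp.pPrimeCore_quotient_eq_bot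
  obtain ⟨L, hL, hodd, hsimple, hna⟩ := Cfsg.Agent.S1214.result S hS h2
  haveI := hL
  haveI := hsimple
  -- 2-elements lie in `L`
  have h2L : ∀ x : X ⧸ O, (∃ k : ℕ, orderOf x = 2 ^ k) → x ∈ L := by
    rintro x ⟨k, hk⟩
    have h1 : orderOf (QuotientGroup.mk' L x) ∣ 2 ^ k := hk ▸ orderOf_map_dvd _ x
    have h3 : orderOf (QuotientGroup.mk' L x) ∣ L.index := _root_.orderOf_dvd_natCard _
    exact (QuotientGroup.eq_one_iff x).1 (orderOf_eq_one_iff.1
      (Nat.eq_one_of_dvd_coprimes ((Nat.coprime_two_left.2 hodd).pow_left k) h1 h3))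
  let P₁ : Sylow 2 (X ⧸ O) := P.mapSurjective hπs
  have hP₁L : (P₁ : Subgroup (X ⧸ O)) ≤ L := fun x hx => by
    obtain ⟨k, hk⟩ := IsPGroup.iff_orderOf.1 P₁.isPGroup' ⟨x, hx⟩
    exact h2L x ⟨k, by rw [← Subgroup.orderOf_coe] at hk; exact hk⟩
  have hinj : ∀ s ∈ (P : Subgroup X), π s = 1 → s = 1 := fun s hs e => by
    obtain ⟨k, hk⟩ := IsPGroup.iff_orderOf.1 P.isPGroup' ⟨s, hs⟩
    rw [← Subgroup.orderOf_coe] at hk
    exact orderOf_eq_one_iff.1 (Nat.eq_one_of_dvd_coprimes ((Nat.coprime_two_left.2 hOo).pow_left k)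
      (show orderOf s ∣ 2 ^ k by rw [← hk]) (O.orderOf_dvd_natCard (hker.1 e)))
  let φ : ↥(P : Subgroup X) ≃* ↥(P₁ : Subgroup (X ⧸ O)) :=
    MulEquiv.ofBijective (π.subgroupMap (P : Subgroup X))
      ⟨(injective_iff_map_eq_one _).2 fun s hs => Subtype.ext (hinj s s.2
        (congrArg Subtype.val hs)), MonoidHom.subgroupMap_surjective π _⟩
  let T : Sylow 2 L := P₁.subtype hP₁L
  have hTe : Nonempty (↥(S : Subgroup X) ≃* ↥(T : Subgroup L)) :=
    ⟨((Sylow.equiv S P).trans φ).trans (sylowIncl hP₁L)⟩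
  have hTS : Cfsg.IsQuasiDihedral ↥(T : Subgroup L) ∨ Cfsg.IsWreathed ↥(T : Subgroup L) := by
    obtain ⟨ψ⟩ := hTe
    rcases hS with hS' | hS'
    · obtain ⟨n, x, y, h⟩ := exists_qd hS'
      have h' := h.map ψ
      exact .inl ⟨n, h'.hn, h'.card, ψ x, ψ y, h'.ox, h'.oy, h'.conj⟩
    · obtain ⟨n, x, y, z, h⟩ := exists_wr hS'
      have h' := h.map ψ
      exact .inr ⟨n, h'.hn, h'.card, ψ x, ψ y, ψ z, h'.ox, h'.comm, h'.disj, h'.oz, h'.conj⟩
  obtain ⟨⟨z, hz, hzc⟩, ⟨a, b, ha, hb, hab⟩, hAut⟩ := sylow_facts hTS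
  have hLidx : ∀ N : Subgroup L, N.index ≠ 2 := fun N hN => by
    haveI := normal_of_index_eq_two hN
    rcases (inferInstance : N.Normal).eq_bot_or_eq_top with rfl | rfl
    · rw [index_bot] at hN
      haveI : IsCyclic L := isCyclic_of_prime_card hN
      exact hna (IsCyclic.isMulCommutative)
    · rw [index_top] at hN
      omega
  have hone := all_conj_of_no_index_two T hTS hLidx
  have hcases : (∃ (F : Type) (_ : Field F) (_ : Fintype F), Odd (Fintype.card F) ∧
        Nonempty (L ≃* Matrix.ProjectiveSpecialLinearGroup (Fin 3) F)) ∨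
      (∃ (F : Type) (_ : Field F) (_ : Fintype F) (q : ℕ), Fintype.card F = q ^ 2 ∧ Odd q ∧
        Nonempty (L ≃* Cfsg.PSU 3 F q)) ∨ Cfsg.IsM11 L := by
    rcases hTS with h | h
    · rcases hSD L T h with ⟨F, i1, i2, h4, hf⟩ | ⟨F, i1, i2, q, hq, h4, hf⟩ | hM
      · exact Or.inl ⟨F, i1, i2, Nat.odd_iff.2 (by omega), hf⟩
      · exact Or.inr (Or.inl ⟨F, i1, i2, q, hq, Nat.odd_iff.2 (by omega), hf⟩)
      · exact Or.inr (Or.inr hM)
    · exact hWr L T h
  -- the centraliser of `L`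
  have hCL : ∀ g : X ⧸ O, (∀ l : L, g * l = l * g) → g = 1 := by
    intro g hg
    haveI : (centralizer (L : Set (X ⧸ O))).Normal := inferInstance
    have hle : centralizer (L : Set (X ⧸ O)) ≤ Cfsg.oddCore (X ⧸ O) := by
      refine (Grp.pPrimeCore_le_iff (p := 2) inferInstance).2 (Nat.coprime_two_right.2 ?_)
      refine Nat.not_even_iff_odd.1 fun he => ?_
      obtain ⟨w, hw, hw2⟩ := exists_orderOf_prime_mem (even_iff_two_dvd.1 he)
      have hwL : w ∈ L := h2L w ⟨1, by rw [hw2, pow_one]⟩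
      have hwc : (⟨w, hwL⟩ : L) ∈ Subgroup.center L :=
        mem_center_iff.2 fun l => Subtype.ext (mem_centralizer_iff.1 hw l l.2)
      rcases (inferInstance : (Subgroup.center L).Normal).eq_bot_or_eq_top with e | e
      · rw [e, mem_bot] at hwc
        have := congrArg Subtype.val hwc
        rw [Subgroup.coe_one] at this
        change w = 1 at this
        rw [this, orderOf_one] at hw2
        omega
      · exact hab (Subtype.ext (mem_center_iff.1 (e ▸ mem_top (a : L) : (a : L) ∈ Subgroup.center L)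
          (b : L)).symm)
    have := hle (mem_centralizer_iff.2 fun l hl => (hg ⟨l, hl⟩).symm)
    rwa [hOq, mem_bot] at this
  set A : Subgroup X := (Cfsg.oddCore H).map H.subtype with hA
  have hAo : Odd (Nat.card A) := by
    rw [hA, card_map_of_injective H.subtype_injective]
    exact Nat.coprime_two_right.1 (Grp.pPrimeCore_coprime (p := 2))
  have hAn : ∀ h ∈ H, ∀ x ∈ A, h * x * h⁻¹ ∈ A := by
    rintro h hh _ ⟨x, hx, rfl⟩
    exact ⟨_, (inferInstance : (Cfsg.oddCore H).Normal).conj_mem x hx ⟨h, hh⟩, rfl⟩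
  have hTmem : ∀ s ∈ (T : Subgroup L), ∃ p ∈ (P : Subgroup X), π p = (s : X ⧸ O) := fun s hs => by
    have hs' : (s : X ⧸ O) ∈ (P₁ : Subgroup (X ⧸ O)) := by
      change s ∈ ((P₁.subtype hP₁L : Sylow 2 L) : Subgroup L) at hs
      rwa [Sylow.coe_subtype, mem_subgroupOf] at hs
    exact hs'
  have hN : A.map π = ⊥ := by
    refine odd_normalized_eq_bot T hone hAut (z := (z : L)) (by rw [Subgroup.orderOf_coe, hz]) z.2
      (fun s hs => congrArg Subtype.val (hzc ⟨s, hs⟩))
      ⟨a, a.2, b, b.2, by rw [Subgroup.orderOf_coe, ha], by rw [Subgroup.orderOf_coe, hb],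
        fun e => hab (Subtype.ext e)⟩
      (core_central_of_cases T hTS hLidx hone hcases) hCL (A.map π) (hAo.of_dvd_nat (card_map_dvd _ _)) ?_ ?_
    · rintro s hs _ ⟨n, hn, rfl⟩
      obtain ⟨p, hp, hps⟩ := hTmem s hs
      exact ⟨p * n * p⁻¹, hAn p (hPH hp) n hn, by rw [map_mul, map_mul, map_inv, hps]⟩
    rintro v hv hv2 _ ⟨n, hn, rfl⟩ hcomm
    obtain ⟨y, hy, hyv⟩ := hTmem v hv
    have hv2' : orderOf (π y) = 2 := by rw [hyv, Subgroup.orderOf_coe, hv2]
    have hyy : y * y = 1 := hinj _ ((P : Subgroup X).mul_mem hy hy) (by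
      rw [map_mul, ← pow_two, ← hv2', pow_orderOf_eq_one])
    have hy2 : orderOf y = 2 := orderOf_eq_prime (by rw [pow_two, hyy]) fun e => by
      rw [e, map_one, orderOf_one] at hv2'
      omega
    have hyi : y⁻¹ = y := inv_eq_of_mul_eq_one_right hyy
    rw [← hyv] at hcomm ⊢
    have hdA : n⁻¹ * (y * n * y) ∈ A := by
      refine A.mul_mem (A.inv_mem hn) ?_
      nth_rewrite 2 [← hyi]
      exact hAn y (hPH hy) n hn
    have hdO : n⁻¹ * (y * n * y) ∈ O := hker.1 (by
      rw [map_mul, map_mul, map_mul, map_inv, ← hcomm, mul_assoc, ← map_mul, hyy, map_one, mul_one,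
        inv_mul_cancel])
    obtain ⟨j, hj⟩ := exists_fixed_lift hOo hyy hdO
    set n' := n * (n⁻¹ * (y * n * y)) ^ j with hn'
    have hn'π : π n' = π n := by rw [hn', map_mul, map_pow, hker.2 hdO, one_pow, mul_one]
    have hn'A : n' ∈ A := A.mul_mem hn (A.pow_mem hdA j)
    -- the fixed points of `y` on `A` lie in the core of its centraliser
    set B : Subgroup X := A ⊓ centralizer ({y} : Set X) with hB
    set W : Subgroup X := B ⊔ Cfsg.centralizerPPrimeCore 2 y with hW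
    have hBn : B ≤ normalizer (Cfsg.centralizerPPrimeCore 2 y : Set X) := fun b hb => by
      have hby := mem_centralizer_singleton_iff.1 (mem_inf.1 hb).2
      refine mem_normalizer_iff.2 fun w => ⟨fun hw => Grp.centralizerPPrimeCore_conj hby hw, fun hw => ?_⟩
      have := Grp.centralizerPPrimeCore_conj (p := 2) (Commute.inv_left hby).eq hw
      rwa [inv_inv, show b⁻¹ * (b * w * b⁻¹) * b = w by group] at this
    have hWle : W ≤ Cfsg.centralizerPPrimeCore 2 y := by
      refine Grp.le_centralizerPPrimeCore (fun w hw => mem_centralizer_singleton_iff.1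
        ((sup_le inf_le_right (map_subtype_le _) : W ≤ centralizer ({y} : Set X)) hw)) ?_
        (Grp.card_sup_coprime_to hBn
          ((Nat.coprime_two_right.2 hAo).coprime_dvd_left (Subgroup.card_dvd_of_le inf_le_left))
          (Grp.centralizerPPrimeCore_coprime y))
      intro c hc w hw
      obtain ⟨h, hh, o, ho, rfl⟩ := hcov y (hPH hy) hy2 c (mem_centralizer_singleton_iff.2 hc)
      have hoW : o ∈ W := mem_sup_right ho
      have hhy := mem_centralizer_singleton_iff.1 (mem_inf.1 hh).2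
      have hmap : W.map (MulAut.conj h).toMonoidHom ≤ W := by
        rw [hW, Subgroup.map_sup]
        refine sup_le ?_ ?_
        · rintro _ ⟨b, hb, rfl⟩
          exact mem_sup_left (mem_inf.2 ⟨hAn h (mem_inf.1 hh).1 b (mem_inf.1 hb).1,
            (centralizer _).mul_mem ((centralizer _).mul_mem (mem_inf.1 hh).2 (mem_inf.1 hb).2)
              ((centralizer _).inv_mem (mem_inf.1 hh).2)⟩)
        · rintro _ ⟨b, hb, rfl⟩
          exact mem_sup_right (Grp.centralizerPPrimeCore_conj hhy hb)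
      rw [show h * o * w * (h * o)⁻¹ = h * (o * w * o⁻¹) * h⁻¹ by group]
      exact hmap ⟨_, W.mul_mem (W.mul_mem hoW hw) (W.inv_mem hoW), rfl⟩
    have hn'core : n' ∈ Cfsg.centralizerPPrimeCore 2 y :=
      hWle (mem_sup_left (mem_inf.2 ⟨hn'A, mem_centralizer_singleton_iff.2 hj⟩))
    rw [← hn'π]
    refine Grp.le_centralizerPPrimeCore (p := 2) (N := (Cfsg.centralizerPPrimeCore 2 y).map π) ?_ ?_
      ((Grp.centralizerPPrimeCore_coprime y).coprime_dvd_left (card_map_dvd _ _)) ⟨n', hn'core, rfl⟩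
    · rintro _ ⟨w, hw, rfl⟩
      rw [← map_mul, ← map_mul, Grp.centralizerPPrimeCore_commute hw]
    rintro c hc _ ⟨w, hw, rfl⟩
    obtain ⟨g, rfl⟩ := hπs c
    have hgd : g⁻¹ * (y * g * y) ∈ O := hker.1 (by
      rw [map_mul, map_mul, map_mul, map_inv, ← hc, mul_assoc, ← map_mul, hyy, map_one, mul_one,
        inv_mul_cancel])
    obtain ⟨i, hi⟩ := exists_fixed_lift hOo hyy hgd
    refine ⟨_, Grp.centralizerPPrimeCore_conj hi hw, ?_⟩
    simp only [map_mul, map_inv, map_pow, hker.2 hgd, one_pow, mul_one]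
  intro x hx
  refine hker.1 ?_
  have := mem_map_of_mem π hx
  rwa [hN, mem_bot] at this

end Cfsg.Agent.Invol.AbgConsumers
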