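import Cfsg.Agent.Lib.Fus.Bicyclic.Structure

/-!
# Bicyclic 2-groups with elementary abelian subgroups of order eight

In such a group no automorphism of a subgroup moves the subgroup outside the maximal subgroup
containing all the involutions.
-/

set_option autoImplicit false
set_option linter.style.haveILetI false
set_option linter.unusedSectionVars false

open scoped commutatorElement

namespace Cfsg.Agent.Invol.AbgConsumers

open Subgroup Fus.Bicyclic

universe u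

variable {X : Type u} [Group X] [Finite X]

theorem dvd_gsum_sub {d w : ℤ} (h : d ∣ w - 1) : ∀ k : ℕ, d ∣ gsum w k - k := fun k => by
  induction k with
  | zero => simp [gsum]
  | succ k ih =>
    rw [gsum, show 1 + w * gsum w k - ((k + 1 : ℕ) : ℤ) = (w - 1) * gsum w k + (gsum w k - k) by
      push_cast; ring]
    exact dvd_add (h.mul_right _) ih

theorem gsum_two_pow {w : ℤ} (h : (4 : ℤ) ∣ w - 1) : ∀ r : ℕ, ∃ o : ℤ, Odd o ∧ gsum w (2 ^ r) = 2 ^ r * o := by
  intro r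
  induction r with
  | zero => exact ⟨1, odd_one, by simp [gsum]⟩
  | succ r ih =>
    obtain ⟨o, ho, he⟩ := ih
    obtain ⟨s, hs⟩ := h.trans (sub_one_dvd_pow_sub_one w (2 ^ r))
    refine ⟨o * (2 * s + 1), ho.mul ⟨s, rfl⟩, ?_⟩
    rw [pow_succ, mul_two, gsum_add, he, show w ^ 2 ^ r = 4 * s + 1 by linarith, pow_succ]
    ring

theorem parity_gsum {v : ℤ} (hv : Odd v) (k : ℕ) : (2 : ℤ) ∣ gsum v k - k :=
  dvd_gsum_sub (by obtain ⟨t, rfl⟩ := hv; exact ⟨t, by ring⟩) k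

/-- A parity invariant under an automorphism is trivial on what the automorphism moves. -/
theorem parity_all {R : Type u} [Group R] [Finite R] (β : MulAut R) (P : R → Prop)
    (hmul : ∀ x y : R, P (x * y) ↔ (P x ↔ P y)) (hβ : ∀ x, P x → P (β x))
    (hgen : closure (Set.range fun x : R => x⁻¹ * β x) = ⊤) : ∀ x, P x := by
  have h1 : P 1 := by
    have := hmul 1 1
    rw [one_mul] at this
    exact this.2 Iff.rfl
  have hinv : ∀ x, P x⁻¹ ↔ P x := fun x => by
    have := hmul x⁻¹ x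
    rw [inv_mul_cancel] at this
    exact this.1 h1
  have hβ' : ∀ x, P (β x) ↔ P x := fun x => by
    refine ⟨fun h => ?_, hβ x⟩
    have key : ∀ k : ℕ, P ((β ^ k) (β x)) := fun k => by
      induction k with
      | zero => exact h
      | succ k ih =>
        rw [pow_succ']
        exact hβ _ ih
    obtain ⟨m, hm, hβm⟩ := (isOfFinOrder_of_finite β).exists_pow_eq_one
    have := key (m - 1)
    rwa [← MulAut.mul_apply, ← pow_succ, show m - 1 + 1 = m by omega, hβm, MulAut.one_apply] at this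
  intro x
  have hx : x ∈ closure (Set.range fun x : R => x⁻¹ * β x) := hgen ▸ mem_top x
  induction hx using closure_induction with
  | mem y hy =>
    obtain ⟨z, rfl⟩ := hy
    exact (hmul _ _).2 ((hinv z).trans (hβ' z).symm)
  | one => exact h1
  | mul a b _ _ ha hb => exact (hmul a b).2 (iff_of_true ha hb)
  | inv a _ ha => exact (hinv a).2 ha

variable (e : Ext X)

/-- The dihedral or quaternion part. -/
def dSub : Subgroup X := zpowers e.c ⊔ zpowers e.b

/-- The maximal subgroup containing `dSub`. -/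
def mSub : Subgroup X := dSub e ⊔ zpowers (e.a ^ 2)

theorem c_normal : (zpowers e.c).Normal := by
  refine ⟨fun u hu g => ?_⟩
  have hg : g ∈ closure ({e.a, e.b} : Set X) := e.gen ▸ mem_top g
  have hle : closure ({e.a, e.b} : Set X) ≤ normalizer (zpowers e.c : Set X) := by
    rw [closure_le]
    rintro p (hp | hp) <;> rw [hp]
    all_goals refine mem_normalizer_zpowers_of_conj ?_
    · rw [e.conj_ac]; exact zpow_mem (mem_zpowers _) _
    · rw [e.conj_bc]; exact inv_mem (mem_zpowers _)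
  exact (mem_normalizer_iff.1 (hle hg) u).1 hu

theorem mem_dSub {x : X} : x ∈ dSub e ↔ ∃ j : ℤ, x = e.c ^ j ∨ x = e.c ^ j * e.b := by
  haveI := c_normal e
  constructor
  · intro hx
    obtain ⟨u, hu, w, hw, rfl⟩ := mem_sup_of_normal_left.1 hx
    obtain ⟨j, rfl⟩ := mem_zpowers_iff.1 hu
    obtain ⟨i, rfl⟩ := mem_zpowers_iff.1 hw
    obtain ⟨s, hs⟩ : ∃ s : ℤ, e.b ^ (2 : ℤ) = e.c ^ s := by
      rcases e.sq_b with h | ⟨-, h⟩
      · exact ⟨0, by rw [zpow_zero, show (2 : ℤ) = ((2 : ℕ) : ℤ) from rfl, zpow_natCast, h]⟩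
      · exact ⟨((2 ^ (e.n - 1) : ℕ) : ℤ), by
          rw [show (2 : ℤ) = ((2 : ℕ) : ℤ) from rfl, zpow_natCast, h, zpow_natCast]⟩
    rcases Int.even_or_odd' i with ⟨k, rfl | rfl⟩
    · exact ⟨j + s * k, Or.inl (by rw [zpow_mul, hs, ← zpow_mul, ← zpow_add])⟩
    · exact ⟨j + s * k, Or.inr (by
        rw [zpow_add_one, zpow_mul, hs, ← zpow_mul, ← mul_assoc, ← zpow_add])⟩
  · rintro ⟨j, rfl | rfl⟩
    · exact mem_sup_left (zpow_mem (mem_zpowers _) _)
    · exact mul_mem (mem_sup_left (zpow_mem (mem_zpowers _) _)) (mem_sup_right (mem_zpowers _))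

theorem dSub_normal : (dSub e).Normal := by
  have hle : closure ({e.a, e.b} : Set X) ≤ normalizer (dSub e : Set X) := by
    rw [closure_le]
    rintro p (hp | hp) <;> rw [hp]
    · show e.a ∈ normalizer (dSub e : Set X)
      have hmap : (dSub e).map (MulAut.conj e.a).toMonoidHom = dSub e := by
        refine eq_of_le_of_card_ge ?_ ?_
        · rw [dSub, Subgroup.map_sup, MonoidHom.map_zpowers, MonoidHom.map_zpowers]
          refine sup_le (zpowers_le.2 ?_) (zpowers_le.2 ?_)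
          · show e.a * e.c * e.a⁻¹ ∈ _
            rw [e.conj_ac]
            exact mem_sup_left (zpow_mem (mem_zpowers _) _)
          · show e.a * e.b * e.a⁻¹ ∈ _
            rw [e.conj_ab]
            exact mul_mem (mem_sup_left (mem_zpowers _)) (mem_sup_right (mem_zpowers _))
        · rw [card_map_of_injective (MulAut.conj e.a).injective]
      refine mem_normalizer_iff.2 fun u => ⟨fun hu => hmap ▸ ⟨u, hu, rfl⟩, fun hu => ?_⟩
      rw [← hmap] at hu
      obtain ⟨w, hw, hwe⟩ := hu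
      rwa [← (MulAut.conj e.a).injective (show (MulAut.conj e.a) w = (MulAut.conj e.a) u from hwe)]
    · exact le_normalizer (mem_sup_right (mem_zpowers e.b) : e.b ∈ dSub e)
  rw [← normalizer_eq_top_iff, eq_top_iff, ← e.gen]
  exact hle

theorem exists_decomp (x : X) : ∃ t : ℕ, ∃ d ∈ dSub e, x = e.a ^ t * d := by
  haveI := dSub_normal e
  have hx : x ∈ zpowers e.a ⊔ dSub e := by
    have : closure ({e.a, e.b} : Set X) ≤ zpowers e.a ⊔ dSub e := by
      rw [closure_le]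
      rintro w (hw | hw) <;> rw [hw]
      · exact mem_sup_left (mem_zpowers _)
      · exact mem_sup_right (mem_sup_right (mem_zpowers _))
    exact this (e.gen ▸ mem_top x)
  obtain ⟨u, hu, d, hd, rfl⟩ := mem_sup_of_normal_right.1 hx
  obtain ⟨t, rfl⟩ := (isOfFinOrder_of_finite e.a).mem_powers_iff_mem_zpowers.2 hu
  exact ⟨t, d, hd, rfl⟩

theorem mem_dSub_pow {t : ℕ} {d : X} (hd : d ∈ dSub e) : e.a ^ t * d ∈ dSub e ↔ 2 ^ e.r ∣ t := by
  rw [(dSub e).mul_mem_cancel_right hd]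
  refine ⟨fun h => ?_, ?_⟩
  · have := e.min_a t (by rwa [zpow_natCast])
    exact Int.natCast_dvd_natCast.1 this
  · rintro ⟨k, rfl⟩
    rw [pow_mul, e.pow_a]
    exact pow_mem (mem_sup_left (zpow_mem (mem_zpowers _) _)) _

theorem mem_mSub {t : ℕ} {d : X} (hd : d ∈ dSub e) : e.a ^ t * d ∈ mSub e ↔ Even t := by
  rw [(mSub e).mul_mem_cancel_right (show d ∈ mSub e from mem_sup_left hd)]
  constructor
  · intro h
    haveI := dSub_normal e
    obtain ⟨u, hu, w, hw, huw⟩ := mem_sup_of_normal_left.1 h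
    obtain ⟨k, rfl⟩ := mem_zpowers_iff.1 hw
    have h1 : e.a ^ ((t : ℤ) - 2 * k) ∈ dSub e := by
      rw [zpow_sub, zpow_natCast, zpow_mul, ← huw, show (2 : ℤ) = ((2 : ℕ) : ℤ) from rfl,
        zpow_natCast, mul_inv_cancel_right]
      exact hu
    have h2 : ((2 : ℕ) : ℤ) ∣ (t : ℤ) - 2 * k :=
      (Int.natCast_dvd_natCast.2 (dvd_pow_self 2 (by have := e.one_le_r; omega))).trans (e.min_a _ h1)
    rw [even_iff_two_dvd]
    omega
  · rintro ⟨k, rfl⟩
    rw [← two_mul, pow_mul]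
    exact pow_mem (mem_sup_right (mem_zpowers _)) _

theorem mSub_ne_top : mSub e ≠ ⊤ := fun h => by
  have h1 := (mem_mSub e (t := 1) (one_mem (dSub e))).1 (h ▸ mem_top _)
  exact Nat.not_even_one h1

theorem mSub_mul (x y : X) : x * y ∈ mSub e ↔ (x ∈ mSub e ↔ y ∈ mSub e) := by
  haveI := dSub_normal e
  obtain ⟨s, d, hd, rfl⟩ := exists_decomp e x
  obtain ⟨t, d', hd', rfl⟩ := exists_decomp e y
  rw [show e.a ^ s * d * (e.a ^ t * d') = e.a ^ (s + t) * ((e.a ^ t)⁻¹ * d * e.a ^ t * d') by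
    rw [pow_add]; group]
  rw [mem_mSub e hd, mem_mSub e hd', mem_mSub e (mul_mem ?_ hd'), Nat.even_add]
  have := (dSub_normal e).conj_mem d hd (e.a ^ t)⁻¹
  rwa [inv_inv] at this

/-- Every element normalizes the cyclic part. -/
theorem exists_conj_c (x : X) : ∃ w : ℤ, x * e.c * x⁻¹ = e.c ^ w := by
  obtain ⟨w, hw⟩ := mem_zpowers_iff.1 ((c_normal e).conj_mem e.c (mem_zpowers _) x)
  exact ⟨w, hw.symm⟩

/-- An element outside `mSub` moves a reflection by an odd power of `c`. -/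
theorem conj_reflection {x : X} (hx : x ∉ mSub e) (m : ℤ) :
    ∃ u : ℤ, Odd u ∧ x * (e.c ^ m * e.b) * x⁻¹ = e.c ^ u * (e.c ^ m * e.b) := by
  obtain ⟨t, d, hd, rfl⟩ := exists_decomp e x
  have ht : Odd t := Nat.not_even_iff_odd.1 fun h => hx ((mem_mSub e hd).2 h)
  have hv : Odd e.v := by
    obtain ⟨s, hs⟩ := e.four_dvd
    exact ⟨2 * s, by linarith⟩
  have hb1 : e.b * e.c ^ m * e.b⁻¹ = e.c ^ (-m) := e.conj_b_pow m
  obtain ⟨y, hy2, hy⟩ : ∃ y : ℤ, (2 : ℤ) ∣ y - m ∧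
      d * (e.c ^ m * e.b) * d⁻¹ = e.c ^ y * e.b := by
    obtain ⟨j, rfl | rfl⟩ := (mem_dSub e).1 hd
    · refine ⟨m + 2 * j, ⟨j, by ring⟩, ?_⟩
      calc e.c ^ j * (e.c ^ m * e.b) * (e.c ^ j)⁻¹
          = e.c ^ (j + m) * (e.b * e.c ^ (-j) * e.b⁻¹) * e.b := by group
        _ = _ := by rw [e.conj_b_pow, neg_neg, ← zpow_add]; congr 2; ring
    · refine ⟨-m + 2 * j, ⟨j - m, by ring⟩, ?_⟩
      calc e.c ^ j * e.b * (e.c ^ m * e.b) * (e.c ^ j * e.b)⁻¹
          = e.c ^ j * (e.b * e.c ^ m * e.b⁻¹) * (e.b * e.c ^ (-j) * e.b⁻¹) * e.b := by group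
        _ = _ := by rw [hb1, e.conj_b_pow, neg_neg, ← zpow_add, ← zpow_add]; congr 2; ring
  refine ⟨y * e.v ^ t + gsum e.v t - m, ?_, ?_⟩
  · obtain ⟨s, hs⟩ := parity_gsum hv t
    obtain ⟨q, hq⟩ := hy2
    obtain ⟨t', ht'⟩ : Odd (t : ℤ) := by exact_mod_cast ht
    obtain ⟨w, hw⟩ := (hv.pow : Odd (e.v ^ t))
    refine ⟨q * e.v ^ t + m * w + s + t', ?_⟩
    linear_combination (e.v ^ t) * hq + hs + ht' + m * hw
  · calc e.a ^ t * d * (e.c ^ m * e.b) * (e.a ^ t * d)⁻¹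
        = e.a ^ t * (d * (e.c ^ m * e.b) * d⁻¹) * (e.a ^ t)⁻¹ := by group
      _ = (e.a ^ t * e.c ^ y * (e.a ^ t)⁻¹) * (e.a ^ t * e.b * (e.a ^ t)⁻¹) := by rw [hy]; group
      _ = e.c ^ (y * e.v ^ t + gsum e.v t) * e.b := by
          rw [e.conj_a_pow_c, e.conj_a_pow_b, ← mul_assoc, ← zpow_add]
      _ = _ := by rw [← mul_assoc, ← zpow_add, sub_add_cancel]

/-- The consequence of a moved subgroup. -/
def HasTwin : Prop :=
  ∃ x ∉ mSub e, x ^ (2 ^ e.r) = 1 ∧ ∃ w : ℤ, x * e.c * x⁻¹ = e.c ^ w ∧ (2 : ℤ) ^ e.r ∣ w - 1 ∧ e.r ≤ e.n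

/-- Involutions outside `dSub` commute with no reflection when there is a twin. -/
theorem no_eight (hb : e.b ^ 2 = 1) (hT : e.r = 1 ∨ HasTwin e) {s : X} (hs : s * s = 1)
    (hsD : s ∉ dSub e) (m : ℤ) (hcomm : s * (e.c ^ m * e.b) = (e.c ^ m * e.b) * s) : False := by
  haveI := dSub_normal e
  have hzero : ∀ {k : ℤ}, e.c ^ k = 1 → ∀ {i : ℕ}, i ≤ e.n → (2 : ℤ) ^ i ∣ k := fun hk _ hi =>
    (pow_dvd_pow 2 hi).trans ((e.pow_c _).1 hk)
  rcases Nat.lt_or_ge 1 e.r with hr | hr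
  swap
  · -- the index is two
    have hr1 : e.r = 1 := le_antisymm hr e.one_le_r
    obtain ⟨t, d, hd, rfl⟩ := exists_decomp e s
    have hM : e.a ^ t * d ∉ mSub e := fun h => hsD ((mem_dSub_pow e hd).2 (by
      rw [hr1, pow_one]; exact even_iff_two_dvd.1 ((mem_mSub e hd).1 h)))
    obtain ⟨u, hu, hue⟩ := conj_reflection e hM m
    rw [hcomm, mul_inv_cancel_right, eq_comm, mul_eq_right] at hue
    have := hzero hue e.one_le_n
    rw [pow_one] at this
    exact (Int.not_odd_iff_even.2 (even_iff_two_dvd.2 this)) hu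
  obtain ⟨x, hxM, hx1, w, hw, hwd, hrn⟩ := hT.resolve_left (by omega)
  obtain ⟨u, hu, hue⟩ := conj_reflection e hxM m
  obtain ⟨b', hb'⟩ : ∃ b' : X, b' = e.c ^ m * e.b := ⟨_, rfl⟩
  rw [← hb'] at hue hcomm
  have hbb : b' * b' = 1 := by
    rw [hb', show e.c ^ m * e.b * (e.c ^ m * e.b) = e.c ^ m * (e.b * e.c ^ m * e.b⁻¹) * e.b ^ 2 by group,
      e.conj_b_pow, hb, mul_one, ← zpow_add, add_neg_cancel, zpow_zero]
  have hbc : ∀ k : ℤ, b' * e.c ^ k = e.c ^ (-k) * b' := fun k => by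
    rw [hb', ← e.conj_b_pow k]
    calc e.c ^ m * e.b * e.c ^ k = e.c ^ m * (e.b * e.c ^ k * e.b⁻¹) * e.b := by group
      _ = e.c ^ (-k) * (e.c ^ m * e.b) := by
          rw [e.conj_b_pow, ← zpow_add, ← mul_assoc, ← zpow_add, add_comm]
      _ = _ := by rw [e.conj_b_pow]
  have hxc : ∀ (k : ℕ) (i : ℤ), x ^ k * e.c ^ i * (x ^ k)⁻¹ = e.c ^ (i * w ^ k) := fun k => by
    induction k with
    | zero => intro i; simp
    | succ k ih =>
      intro i
      rw [pow_succ', show x * x ^ k * e.c ^ i * (x * x ^ k)⁻¹ = x * (x ^ k * e.c ^ i * (x ^ k)⁻¹) * x⁻¹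
        by group, ih, ← conj_zpow, hw, ← zpow_mul]
      congr 1
      ring
  have hxb : ∀ k : ℕ, x ^ k * b' * (x ^ k)⁻¹ = e.c ^ (u * gsum w k) * b' := fun k => by
    induction k with
    | zero => simp [gsum]
    | succ k ih =>
      rw [pow_succ', show x * x ^ k * b' * (x * x ^ k)⁻¹ = x * (x ^ k * b' * (x ^ k)⁻¹) * x⁻¹ by group,
        ih, show x * (e.c ^ (u * gsum w k) * b') * x⁻¹ = (x * e.c ^ (u * gsum w k) * x⁻¹) * (x * b' * x⁻¹)
        by group, ← conj_zpow, hw, hue, ← zpow_mul, ← mul_assoc, ← zpow_add, gsum]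
      congr 2
      ring
  -- the half of the index
  obtain ⟨q, hq⟩ : ∃ q, e.r = q + 1 := ⟨e.r - 1, by omega⟩
  obtain ⟨h, hh⟩ : ∃ h : ℕ, h = 2 ^ q := ⟨_, rfl⟩
  have h2h : 2 ^ e.r = h + h := by rw [hq, pow_succ, hh, mul_two]
  have hxD : ∀ k : ℕ, x ^ k ∈ dSub e ↔ 2 ^ e.r ∣ k := fun k => by
    obtain ⟨t, d, hd, hxd⟩ := exists_decomp e x
    have ht : Odd t := Nat.not_even_iff_odd.1 fun he => hxM (hxd ▸ (mem_mSub e hd).2 he)
    have : (x : X ⧸ dSub e) = (e.a : X ⧸ dSub e) ^ t := by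
      rw [hxd, QuotientGroup.mk_mul, (QuotientGroup.eq_one_iff d).2 hd, mul_one, QuotientGroup.mk_pow]
    rw [← QuotientGroup.eq_one_iff, QuotientGroup.mk_pow, this, ← pow_mul, ← QuotientGroup.mk_pow,
      QuotientGroup.eq_one_iff, ← (dSub e).mul_mem_cancel_right (one_mem (dSub e)),
      mem_dSub_pow e (one_mem _)]
    exact ⟨fun hd => ((Nat.coprime_two_left.2 ht).pow_left e.r).dvd_of_dvd_mul_left hd,
      fun hd => hd.mul_left t⟩
  -- `s` differs from `x ^ h` by an element of `dSub`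
  obtain ⟨t, d, hd, hsd⟩ := exists_decomp e s
  have hsx : (x ^ h)⁻¹ * s ∈ dSub e := by
    obtain ⟨t', d', hd', hxd⟩ := exists_decomp e x
    have ht' : Odd t' := Nat.not_even_iff_odd.1 fun he => hxM (hxd ▸ (mem_mSub e hd').2 he)
    have hs2 : 2 ^ e.r ∣ t + t := by
      rw [← mem_dSub_pow e (d := 1) (one_mem _), mul_one, pow_add]
      have e1 : e.a ^ t = s * d⁻¹ := by rw [hsd, mul_inv_cancel_right]
      rw [e1, show s * d⁻¹ * (s * d⁻¹) = (s * d⁻¹ * s⁻¹) * (s * s) * d⁻¹ by group, hs, mul_one]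
      exact mul_mem ((dSub_normal e).conj_mem _ (inv_mem hd) _) (inv_mem hd)
    have hst : ¬ 2 ^ e.r ∣ t := fun h => hsD (hsd ▸ (mem_dSub_pow e hd).2 h)
    have htm : 2 ^ e.r ∣ (t : ℤ) - t' * h := by
      obtain ⟨k, hk⟩ := hs2
      obtain ⟨k', hk'⟩ := ht'
      rw [h2h] at hst hk
      have hk2 : t = h * k := by linarith
      rcases Nat.even_or_odd' k with ⟨l, rfl | rfl⟩
      · exact absurd ⟨l, by rw [hk2]; ring⟩ hst
      · exact ⟨(l : ℤ) - k', by
          rw [show ((2 : ℤ) ^ e.r) = ((h + h : ℕ) : ℤ) by rw [← h2h]; norm_num, hk2, hk']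
          push_cast; ring⟩
    rw [← QuotientGroup.eq, QuotientGroup.mk_pow, hxd, hsd, QuotientGroup.mk_mul, QuotientGroup.mk_mul,
      (QuotientGroup.eq_one_iff d).2 hd, (QuotientGroup.eq_one_iff d').2 hd', mul_one, mul_one,
      ← QuotientGroup.mk_pow, ← pow_mul, QuotientGroup.eq]
    obtain ⟨k, hk⟩ := htm
    rw [← zpow_natCast, ← zpow_natCast, ← zpow_neg, ← zpow_add,
      show -((t' * h : ℕ) : ℤ) + t = ((2 ^ e.r : ℕ) : ℤ) * k by push_cast; linarith, zpow_mul,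
      zpow_natCast, e.pow_a]
    exact zpow_mem (mem_sup_left (zpow_mem (mem_zpowers _) _)) _
  have hG : ¬ (2 : ℤ) ^ e.r ∣ u * gsum w h := by
    intro hd2
    have h1 : (2 : ℤ) ^ e.r ∣ u * (h : ℕ) := by
      have := dvd_sub hd2 ((dvd_gsum_sub hwd h).mul_left u)
      rwa [show u * gsum w h - u * (gsum w h - h) = u * (h : ℕ) by ring] at this
    rw [hq, hh, pow_succ, Nat.cast_pow, Nat.cast_ofNat, mul_comm u, mul_dvd_mul_iff_left (by positivity)] at h1
    exact (Int.not_odd_iff_even.2 (even_iff_two_dvd.2 h1)) hu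
  have hW : (2 : ℤ) ^ e.r ∣ w ^ h - 1 := hwd.trans (sub_one_dvd_pow_sub_one w h)
  have hxh : x ^ h * x ^ h = 1 := by rw [← pow_add, ← h2h, hx1]
  have hinv : (x ^ h)⁻¹ = x ^ h := inv_eq_of_mul_eq_one_right hxh
  obtain ⟨j, hj⟩ : ∃ j : ℤ, s = x ^ h * e.c ^ j ∨ s = x ^ h * (e.c ^ j * b') := by
    obtain ⟨j, hj | hj⟩ := (mem_dSub e).1 hsx
    · exact ⟨j, Or.inl (inv_mul_eq_iff_eq_mul.1 hj)⟩
    · refine ⟨j - m, Or.inr ?_⟩
      rw [hb', ← mul_assoc (e.c ^ _), ← zpow_add, sub_add_cancel, ← hj, mul_inv_cancel_left]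
  rcases hj with rfl | rfl
  · have h1 : e.c ^ (2 * j * w ^ h + u * gsum w h) = 1 := by
      refine mul_eq_right.1 (?_ : _ * b' = b')
      calc e.c ^ (2 * j * w ^ h + u * gsum w h) * b'
          = (x ^ h * e.c ^ (2 * j) * (x ^ h)⁻¹) * (x ^ h * b' * (x ^ h)⁻¹) := by
            rw [hxc, hxb, zpow_add, mul_assoc]
        _ = x ^ h * (e.c ^ (2 * j) * b') * (x ^ h)⁻¹ := by group
        _ = x ^ h * (e.c ^ j * (b' * e.c ^ (-j))) * (x ^ h)⁻¹ := by
            rw [hbc, neg_neg, ← mul_assoc (e.c ^ j), ← zpow_add, two_mul]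
        _ = (x ^ h * e.c ^ j) * b' * (x ^ h * e.c ^ j)⁻¹ := by group
        _ = b' := by rw [hcomm, mul_inv_cancel_right]
    have h2 : e.c ^ (j * w ^ h + j) = 1 := by
      rw [zpow_add, ← hxc, hinv, mul_assoc, ← hs]
    have d1 := hzero h1 hrn
    have d2 := hzero h2 hrn
    refine hG ?_
    have h3 := dvd_sub d1 (d2.mul_left 2)
    rw [show 2 * j * w ^ h + u * gsum w h - 2 * (j * w ^ h + j) = u * gsum w h - 2 * j by ring] at h3
    have h4 : (2 : ℤ) ^ e.r ∣ 2 * j := by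
      have := dvd_sub d2 (hW.mul_left j)
      rwa [show j * w ^ h + j - j * (w ^ h - 1) = 2 * j by ring] at this
    have := dvd_add h3 h4
    rwa [sub_add_cancel] at this
  · have h2 : e.c ^ (j * w ^ h + u * gsum w h - j) = 1 := by
      rw [sub_eq_add_neg, zpow_add, zpow_add, ← hxc, show e.c ^ (u * gsum w h) = x ^ h * b' * (x ^ h)⁻¹ * b' by
        rw [hxb, mul_assoc, hbb, mul_one], ← hs, hinv]
      calc x ^ h * e.c ^ j * x ^ h * (x ^ h * b' * x ^ h * b') * e.c ^ (-j)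
          = x ^ h * e.c ^ j * (x ^ h * x ^ h) * b' * x ^ h * (b' * e.c ^ (-j)) := by group
        _ = x ^ h * (e.c ^ j * b') * (x ^ h * (e.c ^ j * b')) := by
            rw [hxh, hbc, neg_neg]; group
    have d2 := hzero h2 hrn
    refine hG ?_
    have := dvd_sub d2 (hW.mul_left j)
    rwa [show j * w ^ h + u * gsum w h - j - j * (w ^ h - 1) = u * gsum w h by ring] at this

theorem zpow_mem_zpowers_zpow {g : X} (hX : IsPGroup 2 X) {k : ℕ} {x : ℤ}
    (hx : ¬ (2 : ℤ) ^ (k + 1) ∣ x) : g ^ ((2 : ℤ) ^ k) ∈ zpowers (g ^ x) := by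
  induction k generalizing g x with
  | zero =>
    rw [pow_zero, zpow_one]
    exact mem_zpowers_zpow_odd hX g (Int.not_even_iff_odd.1 fun he => hx (by simpa using he.two_dvd))
  | succ k ih =>
    rcases Int.even_or_odd' x with ⟨y, rfl | rfl⟩
    · rw [zpow_mul, pow_succ', zpow_mul]
      refine ih fun hd => hx ?_
      rw [pow_succ']
      exact mul_dvd_mul_left 2 hd
    · exact zpowers_le.2 (mem_zpowers_zpow_odd hX g ⟨y, rfl⟩) (zpow_mem (mem_zpowers g) _)

/-- A subgroup with an automorphism moving all of it lies in `mSub`, unless there is a twin. -/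
theorem moved_le_mSub (hX : IsPGroup 2 X) (hr : 2 ≤ e.r) (R : Subgroup X) (β : MulAut R)
    (hgen : closure (Set.range fun x : R => x⁻¹ * β x) = ⊤) : R ≤ mSub e ∨ HasTwin e := by
  haveI := dSub_normal e
  haveI := c_normal e
  by_contra hcon
  rw [not_or] at hcon
  obtain ⟨hle, hT⟩ := hcon
  obtain ⟨x, hxR, hxM⟩ := SetLike.not_le_iff_exists.1 hle
  obtain ⟨q, hq⟩ : ∃ q, e.r = q + 1 := ⟨e.r - 1, by omega⟩
  -- the powers `x ^ k` and the cosets of `dSub`
  obtain ⟨tx, dx, hdx, hxd⟩ := exists_decomp e x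
  have htx : Odd tx := Nat.not_even_iff_odd.1 fun he => hxM (hxd ▸ (mem_mSub e hdx).2 he)
  have hxq : (x : X ⧸ dSub e) = (e.a : X ⧸ dSub e) ^ tx := by
    rw [hxd, QuotientGroup.mk_mul, (QuotientGroup.eq_one_iff dx).2 hdx, mul_one, QuotientGroup.mk_pow]
  have haD : ∀ k : ℕ, e.a ^ k ∈ dSub e ↔ 2 ^ e.r ∣ k := fun k => by
    have := mem_dSub_pow e (t := k) (one_mem (dSub e))
    rwa [mul_one] at this
  have hxD : ∀ k : ℕ, x ^ k ∈ dSub e ↔ 2 ^ e.r ∣ k := fun k => by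
    rw [← QuotientGroup.eq_one_iff, QuotientGroup.mk_pow, hxq, ← pow_mul, ← QuotientGroup.mk_pow,
      QuotientGroup.eq_one_iff, haD]
    exact ⟨fun hd => ((Nat.coprime_two_left.2 htx).pow_left e.r).dvd_of_dvd_mul_left hd,
      fun hd => hd.mul_left _⟩
  have hcover : ∀ y : X, ∃ t : ℕ, ∃ d ∈ dSub e, y = d * x ^ t := by
    intro y
    obtain ⟨t, d, hd, rfl⟩ := exists_decomp e y
    obtain ⟨k, -, hk⟩ := Nat.exists_mul_mod_eq_one_of_coprime
      ((Nat.coprime_two_left.2 htx).symm.pow_right e.r) (Nat.one_lt_two_pow (by omega))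
    refine ⟨k * t, e.a ^ t * d * (x ^ (k * t))⁻¹, ?_,
      (inv_mul_cancel_right (e.a ^ t * d) (x ^ (k * t))).symm⟩
    rw [← QuotientGroup.eq_one_iff, QuotientGroup.mk_mul, QuotientGroup.mk_mul,
      (QuotientGroup.eq_one_iff d).2 hd, mul_one, QuotientGroup.mk_inv, QuotientGroup.mk_pow, mul_inv_eq_one,
      QuotientGroup.mk_pow, hxq, ← pow_mul, ← QuotientGroup.mk_pow, ← QuotientGroup.mk_pow,
      QuotientGroup.eq]
    have h1 : e.a ^ (2 ^ e.r) ∈ dSub e := (haD _).2 dvd_rfl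
    obtain ⟨l, hl⟩ : ∃ l, tx * (k * t) = t + 2 ^ e.r * l := by
      have hm := Nat.div_add_mod (tx * k) (2 ^ e.r)
      rw [hk] at hm
      obtain ⟨L, hL⟩ : ∃ L, tx * k = 1 + 2 ^ e.r * L := ⟨tx * k / 2 ^ e.r, by linarith⟩
      exact ⟨L * t, by rw [← mul_assoc, hL]; ring⟩
    rw [hl, pow_add, inv_mul_cancel_left, pow_mul]
    exact pow_mem h1 _
  -- `R ⊓ mSub e` is preserved unless a power of `R ⊓ dSub e` is new
  let W : Subgroup R := commutator R ⊔ closure (Set.range fun z : R => z ^ (2 ^ e.r))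
  have hWD : ∀ y : R, y ∈ W → (y : X) ∈ dSub e := by
    have hle : W ≤ (dSub e).subgroupOf R := by
      refine sup_le ?_ ((closure_le _).2 ?_)
      · rw [_root_.commutator_def, commutator_le]
        intro y _ z _
        rw [mem_subgroupOf, ← QuotientGroup.eq_one_iff]
        obtain ⟨s, d, hd, hy⟩ := hcover (y : X)
        obtain ⟨t, d', hd', hz⟩ := hcover (z : X)
        rw [commutatorElement_def, Subgroup.coe_mul, Subgroup.coe_mul, Subgroup.coe_mul, Subgroup.coe_inv,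
          Subgroup.coe_inv, QuotientGroup.mk_mul, QuotientGroup.mk_mul, QuotientGroup.mk_mul,
          QuotientGroup.mk_inv, QuotientGroup.mk_inv, hy, hz, QuotientGroup.mk_mul, QuotientGroup.mk_mul,
          (QuotientGroup.eq_one_iff d).2 hd, (QuotientGroup.eq_one_iff d').2 hd', one_mul, one_mul,
          QuotientGroup.mk_pow, QuotientGroup.mk_pow, ((Commute.refl (x : X ⧸ dSub e)).pow_pow s t).eq]
        group
      · rintro _ ⟨z, rfl⟩
        obtain ⟨t, d, hd, hz⟩ := hcover (z : X)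
        show z ^ 2 ^ e.r ∈ (dSub e).subgroupOf R
        rw [mem_subgroupOf, SubgroupClass.coe_pow, ← QuotientGroup.eq_one_iff, QuotientGroup.mk_pow, hz,
          QuotientGroup.mk_mul, (QuotientGroup.eq_one_iff d).2 hd, one_mul, QuotientGroup.mk_pow, ← pow_mul,
          ← QuotientGroup.mk_pow, QuotientGroup.eq_one_iff, hxD]
        exact dvd_mul_left _ _
    exact fun y hy => mem_subgroupOf.1 (hle hy)
  haveI hWn : W.Normal := by
    haveI : (closure (Set.range fun z : R => z ^ (2 ^ e.r))).Normal := ⟨fun y hy g => by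
      induction hy using closure_induction with
      | mem y hy =>
        obtain ⟨z, rfl⟩ := hy
        exact subset_closure ⟨g * z * g⁻¹, conj_pow⟩
      | one => simp
      | mul a b _ _ ha hb =>
        rw [show g * (a * b) * g⁻¹ = g * a * g⁻¹ * (g * b * g⁻¹) by group]; exact mul_mem ha hb
      | inv a _ ha => rw [show g * a⁻¹ * g⁻¹ = (g * a * g⁻¹)⁻¹ by group]; exact inv_mem ha⟩
    infer_instance
  have hWβ : ∀ y, y ∈ W → β y ∈ W := by
    have hle : W.map β.toMonoidHom ≤ W := by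
      rw [Subgroup.map_sup, MonoidHom.map_closure]
      refine sup_le ((le_of_eq ?_).trans le_sup_left) ((closure_le _).2 ?_)
      · exact characteristic_iff_map_eq.1 inferInstance β
      · rintro _ ⟨_, ⟨z, rfl⟩, rfl⟩
        exact mem_sup_right (subset_closure ⟨β z, (map_pow β z _).symm⟩)
    exact fun y hy => hle ⟨y, hy, rfl⟩
  have critA : (∀ y : R, (y : X) ∈ mSub e → y ^ 2 ^ q ∈ W) → False := by
    intro hA
    have hiff : ∀ y : R, (y : X) ∈ mSub e ↔ y ^ 2 ^ q ∈ W := by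
      refine fun y => ⟨hA y, fun hy => ?_⟩
      by_contra hyM
      obtain ⟨t, d, hd, hyd⟩ := hcover (y : X)
      have hD : x ^ (t * 2 ^ q) ∈ dSub e := by
        rw [← QuotientGroup.eq_one_iff, pow_mul, QuotientGroup.mk_pow]
        have hyq : (y : X ⧸ dSub e) = ((x ^ t : X) : X ⧸ dSub e) := by
          rw [hyd, QuotientGroup.mk_mul, (QuotientGroup.eq_one_iff d).2 hd, one_mul]
        rw [← hyq, ← QuotientGroup.mk_pow, QuotientGroup.eq_one_iff, ← SubgroupClass.coe_pow]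
        exact hWD _ hy
      rw [hxD, hq, pow_succ, mul_comm t] at hD
      have ht2 : 2 ∣ t := Nat.dvd_of_mul_dvd_mul_left (by positivity) hD
      refine hyM ?_
      rw [hyd]
      refine mul_mem (mem_sup_left hd) ?_
      obtain ⟨k, rfl⟩ := ht2
      rw [pow_mul]
      refine pow_mem ?_ _
      rw [pow_two, mSub_mul]
    have := parity_all β (fun y : R => (y : X) ∈ mSub e) (fun y z => mSub_mul e (y : X) z)
      (fun y hy => (hiff _).2 (by rw [← map_pow]; exact hWβ _ ((hiff y).1 hy))) hgen ⟨x, hxR⟩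
    exact hxM this
  by_cases hrefl : ∃ m : ℤ, e.c ^ m * e.b ∈ R
  · -- `R` contains a reflection, so it is everything
    obtain ⟨m, hm⟩ := hrefl
    obtain ⟨u, hu, hue⟩ := conj_reflection e hxM m
    have hcu : e.c ^ u ∈ R := by
      have := R.mul_mem (R.mul_mem (R.mul_mem hxR hm) (R.inv_mem hxR)) (R.inv_mem hm)
      rwa [hue, mul_inv_cancel_right] at this
    have hcR : e.c ∈ R :=
      zpowers_le.2 hcu (mem_zpowers_zpow_odd hX e.c hu)
    have hbR : e.b ∈ R := by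
      have := R.mul_mem (R.inv_mem (R.zpow_mem hcR m)) hm
      rwa [inv_mul_cancel_left] at this
    have hDR : dSub e ≤ R := sup_le (zpowers_le.2 hcR) (zpowers_le.2 hbR)
    have haR : e.a ∈ R := by
      have h1 : e.a ^ tx ∈ R := by
        rw [show e.a ^ tx = x * dx⁻¹ by rw [hxd, mul_inv_cancel_right]]
        exact R.mul_mem hxR (R.inv_mem (hDR hdx))
      rw [← zpow_natCast] at h1
      exact zpowers_le.2 h1 (mem_zpowers_zpow_odd hX e.a (by exact_mod_cast htx))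
    refine critA fun y hy => ?_
    obtain ⟨t, d, hd, hyd⟩ := exists_decomp e (y : X)
    obtain ⟨k, rfl⟩ := even_iff_two_dvd.1 ((mem_mSub e hd).1 (hyd ▸ hy))
    rw [← QuotientGroup.eq_one_iff, QuotientGroup.mk_pow]
    have hyy : y = ⟨e.a, haR⟩ ^ (2 * k) * ⟨d, hDR hd⟩ := Subtype.ext (by
      rw [Subgroup.coe_mul, SubgroupClass.coe_pow]; exact hyd)
    have hcW : (⟨e.c, hcR⟩ : R) ∈ W := by
      refine mem_sup_left ?_
      have : (⟨e.c, hcR⟩ : R) = ⁅(⟨e.a, haR⟩ : R), ⟨e.b, hbR⟩⁆ := Subtype.ext (by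
        rw [commutatorElement_def]
        show e.c = e.a * e.b * e.a⁻¹ * e.b⁻¹
        rw [e.conj_ab, mul_inv_cancel_right])
      rw [this, _root_.commutator_def]
      exact commutator_mem_commutator (mem_top _) (mem_top _)
    have hd2 : ((⟨d, hDR hd⟩ : R) : R ⧸ W) ^ 2 = 1 := by
      rw [← QuotientGroup.mk_pow, QuotientGroup.eq_one_iff]
      obtain ⟨j, rfl | rfl⟩ := (mem_dSub e).1 hd
      · rw [show (⟨e.c ^ j, hDR hd⟩ : R) = ⟨e.c, hcR⟩ ^ j from Subtype.ext rfl]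
        exact pow_mem (zpow_mem hcW j) _
      · have hsq : (e.c ^ j * e.b) ^ 2 = e.b ^ 2 := by
          rw [show (e.c ^ j * e.b) ^ 2 = e.c ^ j * (e.b * e.c ^ j * e.b⁻¹) * e.b ^ 2 by
            rw [pow_two, pow_two]; group,
            e.conj_b_pow, ← zpow_add, add_neg_cancel, zpow_zero, one_mul]
        rcases e.sq_b with h | ⟨-, h⟩
        · rw [show (⟨e.c ^ j * e.b, hDR hd⟩ : R) ^ 2 = 1 from Subtype.ext (hsq.trans h)]
          exact one_mem _
        · rw [show (⟨e.c ^ j * e.b, hDR hd⟩ : R) ^ 2 = ⟨e.c, hcR⟩ ^ (2 ^ (e.n - 1)) from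
            Subtype.ext (hsq.trans h)]
          exact pow_mem hcW _
    have hcomm : ∀ g g' : R, (g : R ⧸ W) * g' = g' * g := fun g g' => by
      rw [← QuotientGroup.mk_mul, ← QuotientGroup.mk_mul, QuotientGroup.eq]
      refine mem_sup_left ?_
      rw [show (g * g')⁻¹ * (g' * g) = ⁅g'⁻¹, g⁻¹⁆ by rw [commutatorElement_def]; group,
        _root_.commutator_def]
      exact commutator_mem_commutator (mem_top _) (mem_top _)
    rw [hyy, QuotientGroup.mk_mul, (show Commute _ _ from hcomm _ _).mul_pow, ← QuotientGroup.mk_pow,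
      ← pow_mul, show (2 ^ q) = 2 * 2 ^ (q - 1) by rw [← pow_succ']; congr 1; omega,
      pow_mul _ 2 (2 ^ (q - 1)), hd2, one_pow, mul_one, QuotientGroup.eq_one_iff,
      show 2 * k * (2 * 2 ^ (q - 1)) = 2 ^ e.r * k by
        rw [hq, pow_succ, ← pow_succ', show q - 1 + 1 = q by omega]; ring, pow_mul]
    exact pow_mem (mem_sup_right (subset_closure (Set.mem_range_self _))) _
  push Not at hrefl
  -- `R` meets `dSub e` in a cyclic group
  have hRD : ∀ y : R, (y : X) ∈ dSub e → ∃ j : ℤ, (y : X) = e.c ^ j := by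
    intro y hy
    obtain ⟨j, hj | hj⟩ := (mem_dSub e).1 hy
    · exact ⟨j, hj⟩
    · exact absurd (hj ▸ y.2) (hrefl j)
  obtain ⟨N, hN⟩ : ∃ N : Subgroup R, N = (zpowers e.c).subgroupOf R := ⟨_, rfl⟩
  haveI hNc : IsCyclic N := by
    rw [hN]
    exact isCyclic_of_injective
      ((R.subtype.comp ((zpowers e.c).subgroupOf R).subtype).codRestrict (zpowers e.c) fun y =>
        mem_subgroupOf.1 y.2)
      fun a b h => Subtype.ext (Subtype.ext
        (congrArg (fun z : zpowers e.c => (z : X)) h : ((a : R) : X) = ((b : R) : X)))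
  obtain ⟨⟨c0, hc0⟩, hc0g⟩ := hNc.exists_generator
  obtain ⟨m0, hm0⟩ := mem_zpowers_iff.1 (mem_subgroupOf.1 (hN ▸ hc0))
  have hgenN : ∀ y : R, (y : X) ∈ dSub e → ∃ i : ℤ, y = c0 ^ i := fun y hy => by
    obtain ⟨j, hj⟩ := hRD y hy
    obtain ⟨i, hi⟩ := mem_zpowers_iff.1 (hc0g ⟨y, hN ▸ mem_subgroupOf.2 (hj ▸ zpow_mem (mem_zpowers _) _)⟩)
    exact ⟨i, (congrArg Subtype.val hi).symm⟩
  have hc0D : ∀ i : ℤ, ((c0 ^ i : R) : X) ∈ dSub e := fun i => by
    rw [SubgroupClass.coe_zpow, ← hm0, ← zpow_mul]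
    exact mem_sup_left (zpow_mem (mem_zpowers _) _)
  let a' : R := ⟨x, hxR⟩
  have hcov : ∀ y : R, ∃ t : ℕ, ∃ i : ℤ, y = c0 ^ i * a' ^ t := fun y => by
    obtain ⟨t, d, hd, hy⟩ := hcover (y : X)
    obtain ⟨i, hi⟩ := hgenN (y * (a' ^ t)⁻¹) (by
      rw [Subgroup.coe_mul, Subgroup.coe_inv, SubgroupClass.coe_pow, hy, mul_inv_cancel_right]
      exact hd)
    exact ⟨t, i, by rw [← hi, inv_mul_cancel_right]⟩
  obtain ⟨w, hw⟩ := exists_conj_c e x
  have hac : ∀ i : ℤ, a' * c0 ^ i * a'⁻¹ = c0 ^ (i * w) := fun i => Subtype.ext (by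
    show x * ((c0 ^ i : R) : X) * x⁻¹ = ((c0 ^ (i * w) : R) : X)
    rw [SubgroupClass.coe_zpow, SubgroupClass.coe_zpow, ← hm0, ← zpow_mul, ← conj_zpow, hw, ← zpow_mul,
      ← zpow_mul]
    congr 1
    ring)
  have hackz : ∀ (t : ℕ) (i : ℤ), a' ^ t * c0 ^ i * (a' ^ t)⁻¹ = c0 ^ (i * w ^ t) := fun t => by
    induction t with
    | zero => intro i; simp
    | succ t ih =>
      intro i
      rw [pow_succ', show a' * a' ^ t * c0 ^ i * (a' * a' ^ t)⁻¹ = a' * (a' ^ t * c0 ^ i * (a' ^ t)⁻¹) * a'⁻¹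
        by group, ih, hac]
      congr 1
      ring
  by_cases hA : c0 ^ ((2 : ℤ) ^ q) ∈ W
  · refine critA fun y hy => ?_
    obtain ⟨t, i, rfl⟩ := hcov y
    have ht : Even t := by
      have h1 : x ^ t ∈ mSub e := by
        rw [Subgroup.coe_mul, SubgroupClass.coe_pow] at hy
        exact ((mSub e).mul_mem_cancel_left (mem_sup_left (hc0D i))).1 hy
      rw [hxd] at h1
      by_contra hto
      obtain ⟨k, rfl⟩ := Nat.not_even_iff_odd.1 hto
      rw [pow_succ, pow_mul, mSub_mul, pow_two] at h1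
      refine hxM (hxd ▸ h1.1 ?_)
      exact pow_mem ((mSub_mul e _ _).2 Iff.rfl) _
    obtain ⟨k, rfl⟩ := ht
    rw [← QuotientGroup.eq_one_iff, QuotientGroup.mk_pow, QuotientGroup.mk_mul]
    have hcomm : Commute ((c0 ^ i : R) : R ⧸ W) ((a' ^ (k + k) : R) : R ⧸ W) := by
      show _ = _
      rw [← QuotientGroup.mk_mul, ← QuotientGroup.mk_mul, QuotientGroup.eq]
      refine mem_sup_left ?_
      rw [show (c0 ^ i * a' ^ (k + k))⁻¹ * (a' ^ (k + k) * c0 ^ i) =
        ⁅(a' ^ (k + k))⁻¹, (c0 ^ i)⁻¹⁆ by rw [commutatorElement_def]; group, _root_.commutator_def]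
      exact commutator_mem_commutator (mem_top _) (mem_top _)
    rw [hcomm.mul_pow, ← QuotientGroup.mk_pow, ← QuotientGroup.mk_pow, ← QuotientGroup.mk_mul,
      QuotientGroup.eq_one_iff, ← zpow_natCast (c0 ^ i), ← zpow_mul, mul_comm, zpow_mul, ← pow_mul,
      show (k + k) * 2 ^ q = 2 ^ e.r * k by rw [hq, pow_succ]; ring, pow_mul]
    exact mul_mem (zpow_mem (by push_cast; exact hA) _) (pow_mem (mem_sup_right (subset_closure (Set.mem_range_self _))) _)
  -- now `c0` has order at least `2 ^ r`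
  have hcW : c0 ^ (w - 1) ∈ W := by
    refine mem_sup_left ?_
    have : c0 ^ (w - 1) = ⁅a', c0⁆ := by
      have := hac 1
      rw [zpow_one, one_mul] at this
      rw [commutatorElement_def, this, zpow_sub_one]
    rw [this, _root_.commutator_def]
    exact commutator_mem_commutator (mem_top _) (mem_top _)
  have hwd : (2 : ℤ) ^ e.r ∣ w - 1 := by
    by_contra hd
    exact hA (zpowers_le.2 hcW (zpow_mem_zpowers_zpow (hX.to_subgroup R) (hq ▸ hd)))
  obtain ⟨l, hl⟩ := IsPGroup.iff_orderOf.1 (hX.to_subgroup R) c0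
  have hlr : e.r ≤ l := by
    by_contra hlt
    refine hA ?_
    have h1 : c0 ^ ((2 : ℤ) ^ q) = 1 := by
      rw [← orderOf_dvd_iff_zpow_eq_one, hl]
      push_cast
      exact pow_dvd_pow 2 (by omega)
    rw [h1]
    exact one_mem _
  have hln : l ≤ e.n := by
    have h1 : c0 ^ (2 ^ e.n) = 1 := Subtype.ext (by
      rw [SubgroupClass.coe_pow, ← hm0, ← zpow_natCast, ← zpow_mul, mul_comm, zpow_mul, zpow_natCast,
        ← e.order_c, pow_orderOf_eq_one, one_zpow, OneMemClass.coe_one])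
    have h2 := orderOf_dvd_of_pow_eq_one h1
    rw [hl] at h2
    exact (Nat.pow_dvd_pow_iff_le_right (by norm_num)).1 h2
  obtain ⟨s, hs⟩ := hgenN (a' ^ (2 ^ e.r)) (by
    rw [SubgroupClass.coe_pow]; exact (hxD _).2 dvd_rfl)
  have hs2 : (2 : ℤ) ^ e.r ∣ s := by
    by_contra hd
    refine hA (zpowers_le.2 ?_ (zpow_mem_zpowers_zpow (hX.to_subgroup R) (hq ▸ hd)))
    rw [← hs]
    exact mem_sup_right (subset_closure ⟨a', rfl⟩)
  obtain ⟨s', rfl⟩ := hs2
  rcases hlr.eq_or_lt with hl' | hl'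
  · -- a twin
    refine hT ⟨x, hxM, ?_, w, hw, hwd, hlr.trans hln⟩
    have : a' ^ (2 ^ e.r) = 1 := by
      rw [hs, ← orderOf_dvd_iff_zpow_eq_one, hl, hl']
      push_cast
      exact dvd_mul_right _ _
    exact congrArg Subtype.val this
  -- the parity of the `2 ^ r`-th power
  obtain ⟨o, ho, hgo⟩ : ∃ o : ℕ → ℤ, (∀ t, Odd (o t)) ∧
      ∀ t : ℕ, gsum (w ^ t) (2 ^ e.r) = 2 ^ e.r * o t := by
    have : ∀ t : ℕ, ∃ o : ℤ, Odd o ∧ gsum (w ^ t) (2 ^ e.r) = 2 ^ e.r * o := fun t =>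
      gsum_two_pow (((show (4 : ℤ) = 2 ^ 2 by norm_num) ▸ pow_dvd_pow 2 hr).trans
        (hwd.trans (sub_one_dvd_pow_sub_one w t))) e.r
    choose o ho hgo using this
    exact ⟨o, ho, hgo⟩
  have hpow : ∀ (t : ℕ) (i : ℤ) (k : ℕ), (c0 ^ i * a' ^ t) ^ k = c0 ^ (i * gsum (w ^ t) k) * a' ^ (t * k) :=
    fun t i k => by
      induction k with
      | zero => simp [gsum]
      | succ k ih =>
        rw [pow_succ', ih, show c0 ^ i * a' ^ t * (c0 ^ (i * gsum (w ^ t) k) * a' ^ (t * k)) =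
          c0 ^ i * (a' ^ t * c0 ^ (i * gsum (w ^ t) k) * (a' ^ t)⁻¹) * (a' ^ t * a' ^ (t * k)) by group,
          hackz, ← zpow_add, ← pow_add, gsum]
        congr 2 <;> ring
  have hN' : ∀ y : R, ∃ j : ℤ, y ^ (2 ^ e.r) = c0 ^ ((2 : ℤ) ^ e.r * j) := fun y => by
    obtain ⟨t, i, rfl⟩ := hcov y
    refine ⟨i * o t + s' * t, ?_⟩
    rw [hpow, hgo, mul_comm t, pow_mul, hs, ← zpow_natCast, ← zpow_mul, ← zpow_add]
    congr 1
    ring
  let P : R → Prop := fun y => y ^ (2 ^ e.r) ∈ zpowers (c0 ^ ((2 : ℤ) ^ (e.r + 1)))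
  have hP : ∀ (t : ℕ) (i : ℤ), P (c0 ^ i * a' ^ t) ↔ Even (i + s' * t) := fun t i => by
    show (c0 ^ i * a' ^ t) ^ (2 ^ e.r) ∈ _ ↔ _
    rw [hpow, hgo, mul_comm t, pow_mul, hs, ← zpow_natCast, ← zpow_mul, ← zpow_add, mem_zpowers_iff]
    constructor
    · rintro ⟨k, hk⟩
      rw [← zpow_mul, zpow_eq_zpow_iff_modEq, hl, Int.modEq_iff_dvd] at hk
      push_cast at hk
      have h1 : (2 : ℤ) ^ (e.r + 1) ∣ i * (2 ^ e.r * o t) + 2 ^ e.r * s' * t := by
        have := dvd_add ((pow_dvd_pow 2 hl').trans hk) (dvd_mul_right ((2 : ℤ) ^ (e.r + 1)) k)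
        rwa [sub_add_cancel] at this
      rw [pow_succ, show i * (2 ^ e.r * o t) + 2 ^ e.r * s' * t = 2 ^ e.r * (i * o t + s' * t) by ring,
        mul_dvd_mul_iff_left (by positivity), ← even_iff_two_dvd] at h1
      obtain ⟨o', ho'⟩ := ho t
      rw [ho'] at h1
      obtain ⟨z, hz⟩ := h1
      exact ⟨z - i * o', by linarith⟩
    · rintro ⟨z, hz⟩
      obtain ⟨o', ho'⟩ := ho t
      refine ⟨z + i * o', ?_⟩
      rw [← zpow_mul, ho', pow_succ]
      congr 1
      linear_combination -(2 : ℤ) ^ e.r * hz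
  have hw2 : Odd w := by
    obtain ⟨k, hk⟩ := (dvd_pow_self (2 : ℤ) (by omega : e.r ≠ 0)).trans hwd
    exact ⟨k, by linarith⟩
  have hmul : ∀ y z : R, P (y * z) ↔ (P y ↔ P z) := fun y z => by
    obtain ⟨t, i, rfl⟩ := hcov y
    obtain ⟨t', i', rfl⟩ := hcov z
    rw [show c0 ^ i * a' ^ t * (c0 ^ i' * a' ^ t') =
      c0 ^ i * (a' ^ t * c0 ^ i' * (a' ^ t)⁻¹) * (a' ^ t * a' ^ t') by group, hackz, ← zpow_add, ← pow_add,
      hP, hP, hP]
    obtain ⟨w', hw'⟩ := hw2.pow (n := t)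
    rw [show i + i' * w ^ t + s' * ((t + t' : ℕ) : ℤ) = (i + s' * t) + (i' + s' * t') + 2 * (i' * w') by
      rw [hw']; push_cast; ring]
    simp only [Int.even_add, even_two.mul_right, iff_true]
  have hβ : ∀ y, P y → P (β y) := fun y hy => by
    obtain ⟨k, hk⟩ := mem_zpowers_iff.1 hy
    show β y ^ 2 ^ e.r ∈ _
    rw [← map_pow, ← hk, map_zpow, map_zpow, show (2 : ℤ) ^ (e.r + 1) = ((2 ^ e.r : ℕ) : ℤ) * 2 by
      push_cast; ring, zpow_mul (β c0), zpow_natCast]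
    obtain ⟨j, hj⟩ := hN' (β c0)
    rw [hj, ← zpow_mul, ← zpow_mul]
    exact mem_zpowers_iff.2 ⟨j * k, by rw [← zpow_mul]; congr 1; push_cast; ring⟩
  have h0 := parity_all β P hmul hβ hgen (c0 ^ (1 : ℤ) * a' ^ 0)
  rw [hP] at h0
  simp at h0

end Cfsg.Agent.Invol.AbgConsumers
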