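import Cfsg.Agent.Lib.Invol.AbgConsumers.BicyclicRank
import Cfsg.Agent.Lib.Invol.AbgConsumers.RankTwo
import Cfsg.Agent.Lib.Fus.Bicyclic.Transfer
import Cfsg.Agent.Lib.Fus.HypAction
import Cfsg.Agent.Lib.Fus.GroupHyperfocal
import Cfsg.Agent.S1248

/-!
# Simple groups with bicyclic Sylow 2-subgroups
-/

set_option autoImplicit false
set_option linter.style.haveILetI false
set_option linter.unusedSectionVars false

open scoped Classical commutatorElement

namespace Cfsg.Agent.Invol.AbgConsumers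

open Subgroup Fus Fus.Bicyclic FusionSystem

universe u

/-- A subset closed under an automorphism of odd order, all of whose displacements lie outside a
subgroup of index two, contains a subgroup moved onto itself outside it. -/
theorem exists_moved {P : Type u} [Group P] [Finite P] (f : P → Prop)
    (hmul : ∀ x y : P, f (x * y) ↔ (f x ↔ f y)) (α : MulAut P) (hodd : Odd (orderOf α))
    (hmove : ¬ ∀ x : P, f (x⁻¹ * α x)) :
    ∃ (R : Subgroup P) (β : MulAut R), closure (Set.range fun x : R => x⁻¹ * β x) = ⊤ ∧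
      ¬ ∀ x ∈ R, f x := by
  by_contra hno
  push Not at hno
  refine hmove ?_
  suffices key : ∀ n, ∀ R : Subgroup P, Nat.card R = n → (∀ x ∈ R, α x ∈ R) →
      ∀ x ∈ R, f (x⁻¹ * α x) from fun x => key _ ⊤ rfl (fun _ _ => mem_top _) x (mem_top x)
  intro n
  induction n using Nat.strong_induction_on with
  | _ n ih =>
    intro R hn hR x hx
    let D : Subgroup P := closure ((fun y => y⁻¹ * α y) '' (R : Set P))
    have hDR : D ≤ R := (closure_le _).2 (by
      rintro _ ⟨y, hy, rfl⟩
      exact R.mul_mem (R.inv_mem hy) (hR y hy))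
    have hD : ∀ y ∈ D, α y ∈ D := by
      intro y hy
      induction hy using closure_induction with
      | mem y hy =>
        obtain ⟨z, hz, rfl⟩ := hy
        exact subset_closure ⟨α z, hR z hz, by simp⟩
      | one => simp
      | mul a b _ _ ha hb => rw [map_mul]; exact D.mul_mem ha hb
      | inv a _ ha => rw [map_inv]; exact D.inv_mem ha
    rcases hDR.eq_or_lt with heq | hlt
    · -- a moved subgroup
      have hbij : R.map α.toMonoidHom = R := by
        refine eq_of_le_of_card_ge ?_ ?_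
        · rintro _ ⟨y, hy, rfl⟩; exact hR y hy
        · rw [card_map_of_injective α.injective]
      let β : MulAut R := (R.equivMapOfInjective α.toMonoidHom α.injective).trans (MulEquiv.subgroupCongr hbij)
      have hgen : closure (Set.range fun y : R => y⁻¹ * β y) = ⊤ := by
        refine map_injective R.subtype_injective ?_
        rw [MonoidHom.map_closure, ← MonoidHom.range_eq_map, range_subtype]
        refine (congrArg Subgroup.closure ?_).trans heq
        ext z
        constructor
        · rintro ⟨_, ⟨y, rfl⟩, rfl⟩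
          exact ⟨y, y.2, rfl⟩
        · rintro ⟨y, hy, rfl⟩
          exact ⟨_, ⟨⟨y, hy⟩, rfl⟩, rfl⟩
      exact hno R β hgen _ (R.mul_mem (R.inv_mem hx) (hR x hx))
    · have hfin : ∀ y ∈ D, f (y⁻¹ * α y) :=
        ih _ (hn ▸ Set.Finite.card_lt_card (Set.toFinite _) (SetLike.coe_ssubset_coe.2 hlt)) D rfl hD
      have hf1 : f 1 := by
        have := hmul 1 1
        rw [one_mul] at this
        exact this.2 Iff.rfl
      have hinv : ∀ z, f z⁻¹ ↔ f z := fun z => by
        have := hmul z⁻¹ z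
        rw [inv_mul_cancel] at this
        exact this.1 hf1
      have hinvar : ∀ z ∈ D, (f (α z) ↔ f z) := fun z hz => by
        rw [← hinv z]
        exact ((hmul _ _).1 (hfin z hz)).symm
      set y := x⁻¹ * α x with hy
      have hyD : y ∈ D := subset_closure ⟨x, hx, rfl⟩
      have hiter : ∀ k : ℕ, x⁻¹ * (α ^ k) x ∈ D ∧ (f (x⁻¹ * (α ^ k) x) ↔ (f y ∨ Even k)) := by
        intro k
        induction k with
        | zero => simp [hf1, one_mem]
        | succ k ih =>
          have e1 : x⁻¹ * (α ^ (k + 1)) x = y * α (x⁻¹ * (α ^ k) x) := by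
            rw [pow_succ', MulAut.mul_apply, map_mul, map_inv, hy]
            group
          rw [e1]
          refine ⟨D.mul_mem hyD (hD _ ih.1), ?_⟩
          rw [hmul, hinvar _ ih.1, ih.2, Nat.even_add_one]
          tauto
      obtain ⟨-, h2⟩ := hiter (orderOf α)
      rw [pow_orderOf_eq_one, MulAut.one_apply, inv_mul_cancel] at h2
      exact ((h2.1 hf1).resolve_right (Nat.not_even_iff_odd.2 hodd))

variable {G : Type u} [Group G] [Finite G] [IsSimpleGroup G]

/-- In a simple group the bicyclic Sylow 2-subgroup has 2-rank at most two. -/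
theorem rank_le_of_bicyclic (hG : ¬ IsMulCommutative G) (S : Sylow 2 G) {x y : ↥(S : Subgroup G)}
    (hb : IsBic x y) : Cfsg.PRankLE 2 2 ↥(S : Subgroup G) := by
  haveI : Fact (Nat.Prime 2) := ⟨Nat.prime_two⟩
  intro A hA hA2
  have hAp : IsPGroup 2 A := S.isPGroup'.to_subgroup A
  haveI hAc := hA
  have hsq : ∀ a : A, a * a = 1 := fun a => Subtype.ext (by
    rw [Subgroup.coe_mul, ← pow_two]; exact hA2 a a.2)
  have hcyc : ∀ {Q : Type u} [Group Q] [Finite Q] [IsCyclic Q] (H : Subgroup Q),
      (∀ h ∈ H, h * h = 1) → Nat.card H ≤ 2 := fun {Q} _ _ _ H hH => by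
    obtain ⟨g, hg⟩ := (inferInstance : IsCyclic H).exists_generator
    rw [← orderOf_eq_card_of_forall_mem_zpowers hg]
    exact Nat.le_of_dvd two_pos (orderOf_dvd_of_pow_eq_one (by
      rw [pow_two]; exact Subtype.ext (hH g g.2)))
  by_cases hm : Cfsg.IsMetacyclic ↥(S : Subgroup G)
  · obtain ⟨N, hN, hNc, hQc⟩ := hm
    haveI := hN; haveI := hNc; haveI := hQc
    have h1 : Nat.card (N.subgroupOf A) ≤ 2 := by
      rw [Nat.card_congr ((N.subgroupOf A).equivMapOfInjective A.subtype A.subtype_injective).toEquiv,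
        subgroupOf_map_subtype]
      have := hcyc (Q := N) ((N ⊓ A).subgroupOf N) (fun h hh => Subtype.ext
        (by simpa [pow_two] using hA2 _ (mem_inf.1 (mem_subgroupOf.1 hh)).2))
      rwa [Nat.card_congr (subgroupOfEquivOfLe (inf_le_left : N ⊓ A ≤ N)).toEquiv] at this
    have h2 : (N.subgroupOf A).index ≤ 2 := by
      have hk : ((QuotientGroup.mk' N).comp A.subtype).ker = N.subgroupOf A := by
        rw [← MonoidHom.comap_ker, QuotientGroup.ker_mk']; rfl
      rw [← hk, index_ker]
      exact hcyc _ (by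
        rintro _ ⟨a, rfl⟩
        rw [← map_mul, hsq, map_one])
    calc Nat.card A = Nat.card (N.subgroupOf A) * (N.subgroupOf A).index := (card_mul_index _).symm
      _ ≤ 2 * 2 := Nat.mul_le_mul h1 h2
  -- the fusion system is not inner
  let F := groupFusionSystem (S : Subgroup G)
  have hres : pResidual 2 G = ⊤ := by
    haveI : (pResidual 2 G).Normal := Transfer.instNormalPResidual 2
    refine (inferInstance : (pResidual 2 G).Normal).eq_bot_or_eq_top.resolve_left fun h => hG ?_
    have hp : IsPGroup 2 G := (Transfer.isPGroup_quotient_pResidual (G := G) 2).of_equiv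
      ((QuotientGroup.quotientMulEquivOfEq h).trans QuotientGroup.quotientBot)
    haveI := hp.isNilpotent
    by_contra hc
    exact OddUse.not_isSolvable_of_simple hc inferInstance
  have hhyp : F.hyperfocalSubgroup 2 = S := by
    rw [hyperfocal_group, hres, inf_top_eq]
  have hne : ¬ ∀ P : Subgroup G, F.Hom P = (innerFusionSystem (S : Subgroup G)).Hom P := by
    intro hin
    have hle : F.hyperfocalSubgroup 2 ≤ ⊥ := by
      refine hyperfocal_le_of_coprime fun P hP α hα z hz => ?_
      obtain ⟨g, hg, hgα⟩ : ∃ g ∈ (S : Subgroup G), ∀ w : P, ((α : MulAut P) w : G) = g * w * g⁻¹ := by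
        refine Subgroup.closure_induction (p := fun (β : MulAut P) _ => ∃ g ∈ (S : Subgroup G),
          ∀ w : P, (β w : G) = g * w * g⁻¹) (fun β hβ => ?_) ⟨1, one_mem _, fun w => by simp⟩
          (fun β γ _ _ => ?_) (fun β _ => ?_) α.2
        · have hmem : P.subtype.comp β.toMonoidHom ∈ F.Hom P := hβ
          rw [hin P] at hmem
          obtain ⟨-, g, hg, h1⟩ := hmem
          exact ⟨g, hg, fun w => h1 w⟩
        · rintro ⟨g, hg, h1⟩ ⟨k, hk, h2⟩
          exact ⟨g * k, mul_mem hg hk, fun w => by rw [MulAut.mul_apply, h1, h2]; group⟩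
        · rintro ⟨g, hg, h1⟩
          refine ⟨g⁻¹, inv_mem hg, fun w => ?_⟩
          have h2 := h1 (β⁻¹ w)
          rw [MulAut.apply_inv_self] at h2
          rw [h2]; group
      obtain ⟨k, hk⟩ := S.isPGroup' ⟨g, hg⟩
      have hgk : g ^ 2 ^ k = 1 := congrArg Subtype.val hk
      have hpow : ∀ (i : ℕ) (w : P), (((α : MulAut P) ^ i) w : G) = g ^ i * w * (g ^ i)⁻¹ := fun i => by
        induction i with
        | zero => intro w; simp
        | succ i ih =>
          intro w
          rw [pow_succ', MulAut.mul_apply, hgα, ih, pow_succ']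
          group
      have hα1 : α = 1 := by
        have h1 : α ^ (2 ^ k) = 1 := Subtype.ext (MulEquiv.ext fun w => Subtype.ext (by
          rw [SubgroupClass.coe_pow, hpow, hgk]; simp))
        exact orderOf_eq_one_iff.1 (Nat.eq_one_of_dvd_coprimes (hα.pow_right k) dvd_rfl
          (orderOf_dvd_of_pow_eq_one h1))
      rw [hα1, Subgroup.coe_one, autFun_one hz, inv_mul_cancel]
      exact one_mem _
    rw [hhyp, le_bot_iff] at hle
    obtain ⟨k, hk⟩ := IsPGroup.iff_card.1 S.isPGroup'
    have hodd := S.not_dvd_index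
    rw [hle, index_bot] at hodd
    exact OddUse.not_isSolvable_of_simple hG (Cfsg.Agent.S0205.result
      (Nat.odd_iff.2 (Nat.two_dvd_ne_zero.1 hodd)))
  obtain ⟨e, he⟩ := exists_good_ext S.isPGroup' hb hm
    (cyclic_of_noninner S.isPGroup' hb hm (by
      rw [show F = fusionSystemOfSubgroup ⊤ (S : Subgroup G) le_top from groupFusionSystem_eq _]
      exact isSaturated_ofSubgroup (isSylowOf_top S) le_top) hne)
  haveI := dSub_normal e
  -- the image in `X / dSub e` is cyclic
  haveI hQ : IsCyclic (↥(S : Subgroup G) ⧸ dSub e) := by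
    refine ⟨⟨(e.a : ↥(S : Subgroup G) ⧸ dSub e), fun q => ?_⟩⟩
    obtain ⟨z, rfl⟩ := QuotientGroup.mk_surjective q
    obtain ⟨t, d, hd, rfl⟩ := exists_decomp e z
    rw [QuotientGroup.mk_mul, (QuotientGroup.eq_one_iff d).2 hd, mul_one, QuotientGroup.mk_pow]
    exact pow_mem (mem_zpowers _) t
  have hidx : ((dSub e).subgroupOf A).index ≤ 2 := by
    have hk : ((QuotientGroup.mk' (dSub e)).comp A.subtype).ker = (dSub e).subgroupOf A := by
      rw [← MonoidHom.comap_ker, QuotientGroup.ker_mk']; rfl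
    rw [← hk, index_ker]
    refine hcyc _ ?_
    rintro _ ⟨a, rfl⟩
    rw [← map_mul, hsq, map_one]
  have hin : Nat.card ((zpowers e.c).subgroupOf A) ≤ 2 := by
    rw [Nat.card_congr (((zpowers e.c).subgroupOf A).equivMapOfInjective A.subtype A.subtype_injective).toEquiv,
      subgroupOf_map_subtype]
    have := hcyc (Q := zpowers e.c) ((zpowers e.c ⊓ A).subgroupOf (zpowers e.c)) (fun h hh => Subtype.ext
      (by simpa [pow_two] using hA2 _ (mem_inf.1 (mem_subgroupOf.1 hh)).2))
    rwa [Nat.card_congr (subgroupOfEquivOfLe (inf_le_left : zpowers e.c ⊓ A ≤ zpowers e.c)).toEquiv] at this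
  by_cases hcase : ∃ a ∈ A, a ∈ dSub e ∧ a ∉ zpowers e.c
  swap
  · push Not at hcase
    have heq : (dSub e).subgroupOf A = (zpowers e.c).subgroupOf A := by
      ext a
      rw [mem_subgroupOf, mem_subgroupOf]
      exact ⟨hcase a a.2, fun h => mem_sup_left h⟩
    calc Nat.card A = Nat.card ((dSub e).subgroupOf A) * ((dSub e).subgroupOf A).index :=
        (card_mul_index _).symm
      _ ≤ 2 * 2 := Nat.mul_le_mul (heq ▸ hin) hidx
  obtain ⟨b', hb'A, hb'D, hb'c⟩ := hcase
  obtain ⟨m, hm' | hm'⟩ := (mem_dSub e).1 hb'D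
  · exact absurd (hm' ▸ zpow_mem (mem_zpowers _) _) hb'c
  have hb2 : e.b ^ 2 = 1 := by
    have h1 := hA2 b' hb'A
    rwa [hm', show (e.c ^ m * e.b) ^ 2 = e.c ^ m * (e.b * e.c ^ m * e.b⁻¹) * e.b ^ 2 by
      rw [pow_two, pow_two]; group, e.conj_b_pow, ← zpow_add, add_neg_cancel, zpow_zero, one_mul] at h1
  -- a twin, from the absence of a subgroup of index two in `G`
  have hT : e.r = 1 ∨ HasTwin e := by
    by_contra hno
    rw [not_or] at hno
    have hr : 2 ≤ e.r := by have := e.one_le_r; omega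
    refine mSub_ne_top e (eq_top_iff.2 fun z _ => ?_)
    have hle : F.hyperfocalSubgroup 2 ≤ (mSub e).map (S : Subgroup G).subtype := by
      refine hyperfocal_le_of_coprime fun P hP α hα w hw => ?_
      have hpm : ∀ u v : P, inclusion hP (u * v) ∈ mSub e ↔
          (inclusion hP u ∈ mSub e ↔ inclusion hP v ∈ mSub e) := fun u v => by
        rw [map_mul]; exact mSub_mul e _ _
      have hodd : Odd (orderOf (α : MulAut P)) := by
        rw [orderOf_coe]
        exact Nat.coprime_two_right.1 hα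
      have hall : ∀ u : P, inclusion hP (u⁻¹ * (α : MulAut P) u) ∈ mSub e := by
        by_contra hmove
        obtain ⟨R, β, hgen, hR⟩ := exists_moved (fun u : P => inclusion hP u ∈ mSub e) hpm (α : MulAut P) hodd hmove
        let ε := R.equivMapOfInjective (inclusion hP) (inclusion_injective hP)
        have hgen' : closure (Set.range fun u : R.map (inclusion hP) =>
            u⁻¹ * (MulAut.congr ε β) u) = ⊤ := by
          have := congrArg (Subgroup.map ε.toMonoidHom) hgen
          rw [MonoidHom.map_closure, map_top_of_surjective _ ε.surjective] at this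
          rw [← this]
          congr 1
          ext u
          constructor
          · rintro ⟨v, rfl⟩
            exact ⟨_, ⟨ε.symm v, rfl⟩, by
              show ε ((ε.symm v)⁻¹ * β (ε.symm v)) = v⁻¹ * ε (β (ε.symm v))
              rw [map_mul, map_inv, MulEquiv.apply_symm_apply]⟩
          · rintro ⟨_, ⟨v, rfl⟩, rfl⟩
            exact ⟨ε v, by
              show (ε v)⁻¹ * ε (β (ε.symm (ε v))) = ε (v⁻¹ * β v)
              rw [MulEquiv.symm_apply_apply, map_mul, map_inv]⟩
        rcases moved_le_mSub e S.isPGroup' hr _ _ hgen' with h | h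
        · exact hR fun u hu => h ⟨u, hu, rfl⟩
        · exact hno.2 h
      refine ⟨_, hall ⟨w, hw⟩, ?_⟩
      rw [show autFun (α : MulAut P) w = _ from autFun_coe _ ⟨w, hw⟩]
      rfl
    rw [hhyp] at hle
    obtain ⟨u, hu, huz⟩ := hle z.2
    have : u = z := Subtype.ext huz
    rwa [← this]
  -- the elements of `A` lie in `dSub e`
  have hAD : ∀ a ∈ A, a ∈ dSub e := by
    intro a ha
    by_contra haD
    refine no_eight e hb2 hT (congrArg Subtype.val (hsq ⟨a, ha⟩)) haD m ?_
    rw [← hm']
    exact congrArg Subtype.val (hA.is_comm.comm ⟨a, ha⟩ ⟨b', hb'A⟩)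
  have hidx' : ((zpowers e.c).subgroupOf A).index ≤ 2 := by
    rcases eq_or_ne ((zpowers e.c).subgroupOf A) ⊤ with h | h
    · rw [h, index_top]; omega
    refine le_of_eq (index_eq_two_iff.2 ⟨⟨b', hb'A⟩, fun a => ?_⟩)
    obtain ⟨j, hj | hj⟩ := (mem_dSub e).1 (hAD a a.2)
    · refine Or.inr ⟨mem_subgroupOf.2 (hj ▸ zpow_mem (mem_zpowers _) _), fun h1 => hb'c ?_⟩
      have := mem_subgroupOf.1 h1
      rw [Subgroup.coe_mul, hj] at this
      exact ((zpowers e.c).mul_mem_cancel_left (zpow_mem (mem_zpowers _) _)).1 this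
    · refine Or.inl ⟨mem_subgroupOf.2 ?_, fun h1 => hb'c ?_⟩
      · rw [Subgroup.coe_mul, hj]
        show e.c ^ j * e.b * b' ∈ zpowers e.c
        rw [hm', show e.c ^ j * e.b * (e.c ^ m * e.b) = e.c ^ j * (e.b * e.c ^ m * e.b⁻¹) * e.b ^ 2 by
          rw [pow_two]; group, e.conj_b_pow, hb2, mul_one, ← zpow_add]
        exact zpow_mem (mem_zpowers _) _
      · have := mem_subgroupOf.1 h1
        rw [hj] at this
        rw [hm']
        have he : e.c ^ m * e.b = e.c ^ (m - j) * (e.c ^ j * e.b) := by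
          rw [← mul_assoc, ← zpow_add, sub_add_cancel]
        rw [he]
        exact mul_mem (zpow_mem (mem_zpowers _) _) this
  calc Nat.card A = Nat.card ((zpowers e.c).subgroupOf A) * ((zpowers e.c).subgroupOf A).index :=
      (card_mul_index _).symm
    _ ≤ 2 * 2 := Nat.mul_le_mul hin hidx'

/-- A 2-rank bound for a Sylow 2-subgroup is one for the group. -/
theorem prankLE_of_sylow (S : Sylow 2 G) (h : Cfsg.PRankLE 2 2 ↥(S : Subgroup G)) : Cfsg.PRankLE 2 2 G := by
  haveI : Fact (Nat.Prime 2) := ⟨Nat.prime_two⟩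
  intro A hA hA2
  have hp : IsPGroup 2 A := fun a => ⟨1, Subtype.ext (by rw [pow_one]; exact hA2 a a.2)⟩
  obtain ⟨Q, hQ⟩ := hp.exists_le_sylow
  let e := Q.equiv S
  let ι : A →* ↥(S : Subgroup G) := e.toMonoidHom.comp (inclusion hQ)
  have hι : Function.Injective ι := e.injective.comp (inclusion_injective hQ)
  rw [Nat.card_congr (MonoidHom.ofInjective hι).toEquiv]
  refine h _ ⟨⟨fun u v => ?_⟩⟩ ?_
  · obtain ⟨a, ha⟩ := u.2
    obtain ⟨b, hb⟩ := v.2
    refine Subtype.ext ?_
    rw [Subgroup.coe_mul, Subgroup.coe_mul, ← ha, ← hb, ← map_mul, ← map_mul, hA.is_comm.comm a b]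
  · rintro _ ⟨a, rfl⟩
    rw [← map_pow, show a ^ 2 = 1 from Subtype.ext (hA2 a a.2), map_one]

/-- Simple groups with bicyclic Sylow 2-subgroups. -/
theorem bicyclic_sylow (hSD : SDStmt.{u}) (hWr : WrStmt.{u}) (P : Sylow 2 G)
    (hb : ∃ x y : ↥(P : Subgroup G), ∀ g : ↥(P : Subgroup G), ∃ i j : ℤ, g = x ^ i * y ^ j)
    (h2 : 2 ∣ Nat.card G) :
    Nat.card G = 2 ∨ (∃ (K : Type) (_ : Field K) (_ : Fintype K) (q : ℕ), Fintype.card K = q ∧ Odd q ∧
        (Nonempty (G ≃* Matrix.ProjectiveSpecialLinearGroup (Fin 2) K) ∨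
          Nonempty (G ≃* Matrix.ProjectiveSpecialLinearGroup (Fin 3) K))) ∨
      (∃ (K : Type) (_ : Field K) (_ : Fintype K) (q : ℕ), Fintype.card K = q ^ 2 ∧ Odd q ∧
        Nonempty (G ≃* Cfsg.PSU 3 K q)) ∨
      Nonempty (G ≃* alternatingGroup (Fin 7)) ∨ Cfsg.IsM11 G := by
  haveI : Fact (Nat.Prime 2) := ⟨Nat.prime_two⟩
  by_cases hG : IsMulCommutative G
  · left
    letI : CommGroup G := { (inferInstance : Group G) with mul_comm := hG.is_comm.comm }
    exact ((Nat.prime_dvd_prime_iff_eq Nat.prime_two IsSimpleGroup.prime_card).1 h2).symm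
  right
  obtain ⟨x, y, hxy⟩ := hb
  have h2r := prankLE_of_sylow P (rank_le_of_bicyclic hG P (x := x) (y := y) hxy)
  rcases rank_two hSD hWr hG h2r with ⟨F, i1, i2, ho, -, hf⟩ | ⟨F, i1, i2, ho, hf⟩ | h | h | h | h
  · exact Or.inl ⟨F, i1, i2, _, rfl, ho, Or.inl hf⟩
  · exact Or.inl ⟨F, i1, i2, _, rfl, ho, Or.inr hf⟩
  · exact Or.inr (Or.inl h)
  · exfalso
    obtain ⟨F, i1, i2, hF, ⟨f⟩⟩ := h
    obtain ⟨T⟩ : Nonempty (Sylow 2 (Cfsg.PSU 3 F 4)) := Sylow.nonempty
    obtain ⟨h64, -⟩ := Cfsg.Agent.S1248.result hF T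
    have hcard : Nat.card ↥(P : Subgroup G) = 64 := by
      rw [P.card_eq_multiplicity, Nat.card_congr f.toEquiv, ← T.card_eq_multiplicity, h64]
    -- transfer the exponent
    let Q : Sylow 2 (Cfsg.PSU 3 F 4) := Sylow.ofCard ((P : Subgroup G).map f.toMonoidHom) (by
      rw [card_map_of_injective f.injective, P.card_eq_multiplicity, Nat.card_congr f.toEquiv])
    obtain ⟨-, hK', -, -, -, hsq'⟩ := Cfsg.Agent.S1248.result hF Q
    have h4 : ∀ g : ↥(P : Subgroup G), g ^ 4 = 1 := by
      intro g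
      let g' : ↥(Q : Subgroup (Cfsg.PSU 3 F 4)) := ⟨f g, ⟨g, g.2, rfl⟩⟩
      have hmem : g' ^ 2 ∈ center ↥(Q : Subgroup (Cfsg.PSU 3 F 4)) := by
        rw [← QuotientGroup.eq_one_iff, QuotientGroup.mk_pow]
        exact hsq' _
      have h1 : (⟨g' ^ 2, hmem⟩ : center ↥(Q : Subgroup (Cfsg.PSU 3 F 4))) * ⟨g' ^ 2, hmem⟩ = 1 := by
        haveI := hK'
        exact IsKleinFour.mul_self _
      have h2' : g' ^ 2 * g' ^ 2 = 1 := congrArg Subtype.val h1
      rw [← pow_add] at h2'
      refine Subtype.ext (f.injective ?_)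
      rw [SubgroupClass.coe_pow, map_pow, OneMemClass.coe_one, map_one]
      exact congrArg Subtype.val h2'
    have hle : Nat.card ↥(P : Subgroup G) ≤ Nat.card (zpowers x) * Nat.card (zpowers y) := by
      rw [← Nat.card_prod]
      refine Nat.card_le_card_of_surjective (fun z : zpowers x × zpowers y => (z.1 : ↥(P : Subgroup G)) * z.2)
        fun g => ?_
      obtain ⟨i, j, rfl⟩ := hxy g
      exact ⟨(⟨x ^ i, zpow_mem (mem_zpowers x) i⟩, ⟨y ^ j, zpow_mem (mem_zpowers y) j⟩), rfl⟩
    have hx4 := Nat.le_of_dvd (by norm_num) (orderOf_dvd_of_pow_eq_one (h4 x))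
    have hy4 := Nat.le_of_dvd (by norm_num) (orderOf_dvd_of_pow_eq_one (h4 y))
    rw [hcard, Nat.card_zpowers, Nat.card_zpowers] at hle
    have := Nat.mul_le_mul hx4 hy4
    omega
  · exact Or.inr (Or.inr (Or.inl h))
  · exact Or.inr (Or.inr (Or.inr h))

end Cfsg.Agent.Invol.AbgConsumers
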