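import Cfsg.Agent.Lib.Recog.NormalAbelianCyclic

/-!
# The number of solutions of `x ^ 2 = 1` in a 2-group

It is divisible by four unless the group is cyclic or of maximal class.
-/

set_option autoImplicit false
set_option linter.style.haveILetI false

namespace Cfsg.Agent.Invol.AbgConsumers

universe u

open Subgroup

variable {P : Type u} [Group P] [Finite P]

/-- A set stable under right multiplication by a subgroup has cardinality divisible by its order. -/
theorem card_dvd_of_mul_stable (E : Subgroup P) (T : Set P)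
    (h : ∀ x ∈ T, ∀ e ∈ E, x * e ∈ T) : Nat.card E ∣ Nat.card T := by
  have hT : T = QuotientGroup.mk ⁻¹' ((QuotientGroup.mk : P → P ⧸ E) '' T) := by
    refine Set.Subset.antisymm (fun x hx => ⟨x, hx, rfl⟩) ?_
    rintro x ⟨y, hy, hxy⟩
    have := h y hy _ (QuotientGroup.eq.1 hxy)
    rwa [mul_inv_cancel_left] at this
  rw [hT, QuotientGroup.card_preimage_mk]
  exact dvd_mul_right _ _

/-- A subgroup containing two distinct non-identity elements of a 2-group has order divisible by
four. -/
theorem four_dvd_card (hP : IsPGroup 2 P) (E : Subgroup P) {a b : P} (ha : a ∈ E) (hb : b ∈ E)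
    (ha1 : a ≠ 1) (hb1 : b ≠ 1) (hab : a ≠ b) : 4 ∣ Nat.card E := by
  haveI : Fact (Nat.Prime 2) := ⟨Nat.prime_two⟩
  obtain ⟨k, hk⟩ := IsPGroup.iff_card.1 (hP.to_subgroup E)
  rcases k with _ | _ | k
  · rw [pow_zero, Subgroup.card_eq_one] at hk
    exact absurd (mem_bot.1 (hk ▸ ha)) ha1
  · exfalso
    classical
    haveI : Fintype E := Fintype.ofFinite _
    rw [pow_one, Nat.card_eq_fintype_card] at hk
    have h3 : ({(1 : E), ⟨a, ha⟩, ⟨b, hb⟩} : Finset E).card = 3 := by
      rw [Finset.card_insert_of_notMem, Finset.card_pair]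
      · exact fun e => hab (congrArg Subtype.val e)
      · simp only [Finset.mem_insert, Finset.mem_singleton, not_or]
        exact ⟨fun e => ha1 (congrArg Subtype.val e).symm, fun e => hb1 (congrArg Subtype.val e).symm⟩
    have := Finset.card_le_univ ({(1 : E), ⟨a, ha⟩, ⟨b, hb⟩} : Finset E)
    omega
  · exact ⟨2 ^ k, by rw [hk]; ring⟩

/-- Data of a normal four-group: a central involution `z` and an involution `w` whose conjugates
lie in `{w, w * z}`. -/
structure NormalFour (z w : P) : Prop where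
  hz : z * z = 1
  z_ne : z ≠ 1
  central : ∀ g : P, g * z = z * g
  hw : w * w = 1
  w_ne : w ≠ 1
  ne : w ≠ z
  conj : ∀ g : P, g * w * g⁻¹ = w ∨ g * w * g⁻¹ = w * z

/-- A noncyclic normal abelian subgroup gives a normal four-group. -/
theorem exists_normalFour (hP : IsPGroup 2 P) {A : Subgroup P} (hAn : A.Normal)
    (hA : IsMulCommutative A) (hc : ¬ IsCyclic A) : ∃ z w : P, NormalFour z w := by
  haveI : Fact (Nat.Prime 2) := ⟨Nat.prime_two⟩
  have hab : ∀ a ∈ A, ∀ b ∈ A, a * b = b * a := fun a ha b hb =>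
    congrArg Subtype.val (hA.is_comm.comm ⟨a, ha⟩ ⟨b, hb⟩)
  let W : Subgroup P :=
    { carrier := {x | x ∈ A ∧ x * x = 1}
      one_mem' := ⟨A.one_mem, mul_one 1⟩
      mul_mem' := by
        rintro a b ⟨ha, ha2⟩ ⟨hb, hb2⟩
        refine ⟨A.mul_mem ha hb, ?_⟩
        rw [show a * b * (a * b) = a * (b * a) * b by group, ← hab a ha b hb,
          show a * (a * b) * b = a * a * (b * b) by group, ha2, hb2, mul_one]
      inv_mem' := by
        rintro a ⟨ha, ha2⟩
        exact ⟨A.inv_mem ha, by rw [← mul_inv_rev, ha2, inv_one]⟩ }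
  haveI hWn : W.Normal := ⟨fun x hx g => ⟨hAn.conj_mem x hx.1 g,
    by rw [show g * x * g⁻¹ * (g * x * g⁻¹) = g * (x * x) * g⁻¹ by group, hx.2, mul_one, mul_inv_cancel]⟩⟩
  -- `W` has more than two elements
  have hW : ∀ c : P, ∃ x ∈ W, x ≠ 1 ∧ x ≠ c := by
    intro c
    by_contra hne
    push Not at hne
    apply hc
    obtain ⟨a, -, hAa⟩ := OneInvol.exists_zpowers_eq (R := A) (hP.to_subgroup A) (A := ⊤)
      (fun a _ b _ => hA.is_comm.comm a b) (fun u v hu hv => by
        have key : ∀ t : A, orderOf t = 2 → (t : P) = c := fun t ht => by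
          refine hne t ⟨t.2, ?_⟩ fun e => ?_
          · rw [← Subgroup.coe_mul, ← pow_two, ← ht, pow_orderOf_eq_one, OneMemClass.coe_one]
          · rw [show t = 1 from Subtype.ext e, orderOf_one] at ht
            omega
        exact Subtype.ext ((key u hu).trans (key v hv).symm))
    exact ⟨a, fun x => (hAa ▸ mem_top x : x ∈ zpowers a)⟩
  obtain ⟨n, hn⟩ := IsPGroup.iff_card.1 hP
  have hWb : W ≠ ⊥ := by
    obtain ⟨x, hx, hx1, -⟩ := hW 1
    exact fun e => hx1 (mem_bot.1 (e ▸ hx))
  obtain ⟨z, hz2, hzW, hzC⟩ := MaxClass.exists_central_involution_le hn hWb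
  have hz1 : z ≠ 1 := fun e => by rw [e, orderOf_one] at hz2; omega
  haveI : (zpowers z).Normal := ⟨fun x hx g => by
    obtain ⟨i, rfl⟩ := mem_zpowers_iff.1 hx
    rw [show g * z ^ i = z ^ i * g from mem_center_iff.1 (zpow_mem hzC i) g, mul_inv_cancel_right]
    exact ⟨i, rfl⟩⟩
  let f := QuotientGroup.mk' (zpowers z)
  haveI : (W.map f).Normal := hWn.map f (QuotientGroup.mk'_surjective _)
  have hz_mem : ∀ x ∈ zpowers z, x = 1 ∨ x = z := by
    intro x hx
    obtain ⟨i, rfl⟩ := mem_zpowers_iff.1 hx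
    rw [← zpow_mod_orderOf, hz2]
    rcases Int.emod_two_eq_zero_or_one i with e | e <;> simp [e]
  have hmb : W.map f ≠ ⊥ := by
    intro e
    obtain ⟨x, hx, hx1, hxz⟩ := hW z
    have : f x = 1 := mem_bot.1 (e ▸ mem_map_of_mem f hx)
    rcases hz_mem x ((QuotientGroup.eq_one_iff x).1 this) with h | h
    · exact hx1 h
    · exact hxz h
  obtain ⟨m, hm⟩ := IsPGroup.iff_card.1 (hP.to_quotient (zpowers z))
  obtain ⟨wq, hwq2, hwqW, hwqC⟩ := MaxClass.exists_central_involution_le hm hmb
  obtain ⟨w, hwW, rfl⟩ := hwqW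
  have hwz : w ∉ zpowers z := fun h => by
    rw [show f w = 1 from (QuotientGroup.eq_one_iff w).2 h, orderOf_one] at hwq2
    omega
  refine ⟨z, w, hzW.2, hz1, fun g => mem_center_iff.1 hzC g, hwW.2, fun e => hwz (e ▸ one_mem _),
    fun e => hwz (e ▸ mem_zpowers z), fun g => ?_⟩
  have hmem : w⁻¹ * (g * w * g⁻¹) ∈ zpowers z := by
    rw [← QuotientGroup.eq_one_iff]
    show f (w⁻¹ * (g * w * g⁻¹)) = 1
    rw [map_mul, map_mul, map_mul, mem_center_iff.1 hwqC (f g), map_inv, map_inv, mul_inv_cancel_right,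
      inv_mul_cancel]
  rcases hz_mem _ hmem with h | h
  · exact Or.inl (inv_mul_eq_one.1 h).symm
  · exact Or.inr (inv_mul_eq_iff_eq_mul.1 h)

/-- A 2-group acting on a set with all orbits of length at least four. -/
theorem four_dvd_of_orbits {Q : Type u} [Group Q] [Finite Q] (hQ : IsPGroup 2 Q) {α : Type*} [Finite α]
    [MulAction Q α] (h : ∀ a : α, (MulAction.stabilizer Q a).index ≠ 1 ∧ (MulAction.stabilizer Q a).index ≠ 2) :
    4 ∣ Nat.card α := by
  haveI : Fact (Nat.Prime 2) := ⟨Nat.prime_two⟩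
  letI : Fintype (Quotient (MulAction.orbitRel Q α)) := Fintype.ofFinite _
  rw [Nat.card_congr (MulAction.selfEquivSigmaOrbits Q α), Nat.card_sigma]
  refine Finset.dvd_sum fun ω _ => ?_
  obtain ⟨k, hk⟩ := hQ.index (MulAction.stabilizer Q ω.out)
  have e : Nat.card (MulAction.orbit Q ω.out) = 2 ^ k := by
    rw [← hk, Nat.card_congr (MulAction.orbitEquivQuotientStabilizer Q ω.out)]
    rfl
  rw [e]
  obtain ⟨h1, h2⟩ := h ω.out
  rcases k with _ | _ | k
  · exact absurd hk h1
  · exact absurd hk h2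
  · exact ⟨2 ^ k, by ring⟩

/-- The solutions of `x * x = 1`. -/
def sqrtOne (G : Type u) [Group G] : Set G := {x | x * x = 1}

theorem conj_sq {G : Type u} [Group G] (g x : G) :
    g * x * g⁻¹ * (g * x * g⁻¹) = g * (x * x) * g⁻¹ := by group

/-- A 2-group with a normal four-group is dihedral of order eight or has a number of solutions of
`x * x = 1` divisible by four. -/
theorem count_of_normalFour (hP : IsPGroup 2 P) {z w : P} (h : NormalFour z w) :
    4 ∣ Nat.card (sqrtOne P) ∨ Nonempty (P ≃* DihedralGroup 4) := by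
  haveI : Fact (Nat.Prime 2) := ⟨Nat.prime_two⟩
  let C : Subgroup P := centralizer ({w} : Set P)
  have hC : ∀ g : P, g ∈ C ↔ g * w = w * g := fun g => mem_centralizer_singleton_iff
  have hCi : ∀ g : P, g ∉ C → g * w * g⁻¹ = w * z := fun g hg =>
    (h.conj g).resolve_left fun e => hg ((hC g).2 (mul_inv_eq_iff_eq_mul.1 e))
  have hzC : z ∈ C := (hC z).2 (h.central w).symm
  have hwC : w ∈ C := (hC w).2 rfl
  haveI hCn : C.Normal := ⟨fun c hc g => by
    have hc' := (hC c).1 hc
    refine (hC _).2 ?_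
    rcases h.conj g⁻¹ with e | e <;> rw [inv_inv] at e
    · calc g * c * g⁻¹ * w = g * c * (g⁻¹ * w * g) * g⁻¹ := by group
        _ = g * (c * w) * g⁻¹ := by rw [e]; group
        _ = g * (g⁻¹ * w * g) * c * g⁻¹ := by rw [hc', e]; group
        _ = w * (g * c * g⁻¹) := by group
    · calc g * c * g⁻¹ * w = g * c * (g⁻¹ * w * g) * g⁻¹ := by group
        _ = g * (c * w) * (z * g⁻¹) := by rw [e]; group
        _ = g * (w * (c * z)) * g⁻¹ := by rw [hc']; group
        _ = g * (w * (z * c)) * g⁻¹ := by rw [h.central c]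
        _ = g * (g⁻¹ * w * g) * c * g⁻¹ := by rw [e]; group
        _ = w * (g * c * g⁻¹) := by group⟩
  let E : Subgroup P := closure {z, w}
  have hE4 : 4 ∣ Nat.card E :=
    four_dvd_card hP E (subset_closure (by simp)) (subset_closure (by simp)) h.z_ne h.w_ne
      (Ne.symm h.ne)
  -- the part inside `C`
  have hin : 4 ∣ Nat.card {x : P | x * x = 1 ∧ x ∈ C} := by
    refine hE4.trans (card_dvd_of_mul_stable E _ ?_)
    rintro x ⟨hx, hxC⟩ e he
    induction he using closure_induction_right generalizing x with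
    | one => simpa using And.intro hx hxC
    | mul_right a ha b hb ih =>
      obtain ⟨h1, h2⟩ := ih x hx hxC
      rw [← mul_assoc]
      refine ⟨?_, C.mul_mem h2 ?_⟩
      · have hc : (x * a) * b = b * (x * a) ∧ b * b = 1 := by
          rcases hb with rfl | rfl
          · exact ⟨h.central _, h.hz⟩
          · exact ⟨(hC _).1 h2, h.hw⟩
        rw [show x * a * b * (x * a * b) = x * a * b * (x * a) * b by group, mul_assoc (x * a) b,
          ← hc.1, show x * a * (x * a * b) * b = (x * a) * (x * a) * (b * b) by group, h1, hc.2, mul_one]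
      · rcases hb with rfl | rfl
        · exact hzC
        · exact hwC
    | mul_inv_cancel a ha b hb ih =>
      obtain ⟨h1, h2⟩ := ih x hx hxC
      have hbb : b⁻¹ = b := by
        rcases hb with rfl | rfl
        · exact inv_eq_of_mul_eq_one_right h.hz
        · exact inv_eq_of_mul_eq_one_right h.hw
      rw [hbb, ← mul_assoc]
      refine ⟨?_, C.mul_mem h2 ?_⟩
      · have hc : (x * a) * b = b * (x * a) ∧ b * b = 1 := by
          rcases hb with rfl | rfl
          · exact ⟨h.central _, h.hz⟩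
          · exact ⟨(hC _).1 h2, h.hw⟩
        rw [show x * a * b * (x * a * b) = x * a * b * (x * a) * b by group, mul_assoc (x * a) b,
          ← hc.1, show x * a * (x * a * b) * b = (x * a) * (x * a) * (b * b) by group, h1, hc.2, mul_one]
      · rcases hb with rfl | rfl
        · exact hzC
        · exact hwC
  let U : Set P := {x | x * x = 1 ∧ x ∉ C}
  have hsum : Nat.card (sqrtOne P) = Nat.card {x : P | x * x = 1 ∧ x ∈ C} + Nat.card U := by
    rw [Nat.card_coe_set_eq, Nat.card_coe_set_eq, Nat.card_coe_set_eq]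
    have := Set.ncard_inter_add_ncard_sdiff_eq_ncard (sqrtOne P) (C : Set P)
    exact this.symm
  by_cases hex : ∃ x ∈ U, ((centralizer ({x} : Set P)).subgroupOf C).index = 2
  swap
  · refine Or.inl (hsum ▸ dvd_add hin ?_)
    letI : MulAction C U :=
      { smul := fun c x => ⟨c * x * (c : P)⁻¹, by
          rw [conj_sq, x.2.1, mul_one, mul_inv_cancel], fun hm => x.2.2 (by
            have := hCn.conj_mem _ hm (c : P)⁻¹
            rwa [inv_inv, show (c : P)⁻¹ * ((c : P) * x * (c : P)⁻¹) * c = x by group] at this)⟩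
        one_smul := fun x => Subtype.ext (by show (1 : P) * x * (1 : P)⁻¹ = x; group)
        mul_smul := fun a b x => Subtype.ext (by
          show ((a : P) * b) * x * ((a : P) * b)⁻¹ = a * (b * x * (b : P)⁻¹) * (a : P)⁻¹
          group) }
    refine four_dvd_of_orbits (Q := C) (hP.to_subgroup C) fun x => ?_
    have hst : MulAction.stabilizer C x = (centralizer ({(x : P)} : Set P)).subgroupOf C := by
      ext c
      rw [MulAction.mem_stabilizer_iff, mem_subgroupOf, mem_centralizer_singleton_iff]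
      exact ⟨fun e => mul_inv_eq_iff_eq_mul.1 (congrArg Subtype.val e),
        fun e => Subtype.ext (mul_inv_eq_iff_eq_mul.2 e)⟩
    rw [hst]
    refine ⟨fun e => ?_, fun e => hex ⟨x, x.2, e⟩⟩
    rw [Subgroup.index_eq_one, subgroupOf_eq_top] at e
    exact x.2.2 ((hC _).2 ((mem_centralizer_singleton_iff.1 (e hwC)).symm))
  obtain ⟨x, ⟨hx, hxC⟩, hidx⟩ := hex
  let D : Subgroup P := C ⊓ centralizer ({x} : Set P)
  have hD : ∀ d : P, d ∈ D ↔ d * w = w * d ∧ d * x = x * d := fun d => by
    rw [mem_inf, hC, mem_centralizer_singleton_iff]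
  have hxw : x * w = w * z * x := mul_inv_eq_iff_eq_mul.1 (hCi x hxC)
  have hwD : w ∉ D := fun e => hxC ((hC x).2 ((hD w).1 e).2.symm)
  have hzD : z ∈ D := (hD z).2 ⟨(h.central w).symm, (h.central x).symm⟩
  have hcov : ∀ c ∈ C, c ∈ D ∨ c * w ∈ D := by
    intro c hc
    by_cases hcd : c ∈ D
    · exact Or.inl hcd
    · right
      have h1 : (⟨c, hc⟩ : C) ∉ (centralizer ({x} : Set P)).subgroupOf C := fun e =>
        hcd ⟨hc, mem_subgroupOf.1 e⟩
      have h2 : (⟨w, hwC⟩ : C) ∉ (centralizer ({x} : Set P)).subgroupOf C := fun e =>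
        hwD ⟨hwC, mem_subgroupOf.1 e⟩
      exact ⟨C.mul_mem hc hwC, mem_subgroupOf.1
        ((Subgroup.mul_mem_iff_of_index_two hidx).2 (iff_of_false h1 h2))⟩
  by_cases hbig : ∃ d ∈ D, d ≠ 1 ∧ d ≠ z
  swap
  · push Not at hbig
    right
    have hCc : ∀ c ∈ C, c = 1 ∨ c = z ∨ c = w ∨ c = z * w := by
      intro c hc
      rcases hcov c hc with hd | hd
      · by_cases h1 : c = 1
        · exact Or.inl h1
        · exact Or.inr (Or.inl (hbig c hd h1))
      · by_cases h1 : c * w = 1
        · exact Or.inr (Or.inr (Or.inl (by rw [eq_inv_of_mul_eq_one_left h1,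
            inv_eq_of_mul_eq_one_right h.hw])))
        · refine Or.inr (Or.inr (Or.inr ?_))
          rw [← hbig _ hd h1, mul_assoc, h.hw, mul_one]
    let a : P := x * w
    have hxx : x⁻¹ = x := inv_eq_of_mul_eq_one_right hx
    have ha2 : a * a = z := by
      show x * w * (x * w) = z
      calc x * w * (x * w) = w * z * x * (x * w) := by rw [← hxw]
        _ = w * z * (x * x) * w := by group
        _ = z := by rw [hx, mul_one, mul_assoc, ← h.central w, ← mul_assoc, h.hw, one_mul]
    have ha4 : orderOf a = 2 ^ 2 := orderOf_eq_prime_pow (p := 2) (n := 1)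
      (by rw [pow_one, pow_two, ha2]; exact h.z_ne)
      (by rw [show 2 ^ (1 + 1) = 2 + 2 from rfl, pow_add, pow_two, ha2, h.hz])
    have hinv : x * a * x⁻¹ = a⁻¹ := by
      show x * (x * w) * x⁻¹ = (x * w)⁻¹
      rw [← mul_assoc, hx, one_mul, hxx, mul_inv_rev, inv_eq_of_mul_eq_one_right h.hw, hxx]
    have haC : a ∉ C := fun e => hxC ((mul_mem_cancel_right hwC).1 e)
    have hxa : x ∉ zpowers a := by
      intro e
      obtain ⟨i, hi⟩ := mem_zpowers_iff.1 e
      have : x * a * x⁻¹ = a := by rw [← hi]; group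
      rw [hinv, inv_eq_iff_mul_eq_one, ha2] at this
      exact h.z_ne this
    have hCi2 : C.index = 2 := by
      rw [Subgroup.index_eq_two_iff]
      refine ⟨x, fun b => ?_⟩
      by_cases hb : b ∈ C
      · exact Or.inr ⟨hb, fun e => hxC ((mul_mem_cancel_left hb).1 e)⟩
      · refine Or.inl ⟨?_, hb⟩
        refine (hC _).2 ?_
        have h1 := mul_inv_eq_iff_eq_mul.1 (hCi b hb)
        calc b * x * w = b * (w * z * x) := by rw [mul_assoc, hxw]
          _ = (b * w) * z * x := by group
          _ = w * z * b * z * x := by rw [h1]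
          _ = w * (z * z) * b * x := by rw [mul_assoc (w * z) b z, h.central b]; group
          _ = w * (b * x) := by rw [h.hz]; group
    have hcard : Nat.card P = 2 ^ (2 + 1) := by
      have hle : Nat.card C ≤ 4 := by
        classical
        letI := Fintype.ofFinite C
        rw [Nat.card_eq_fintype_card, ← Finset.card_univ]
        refine le_trans (Finset.card_le_card (t := {(1 : C), ⟨z, hzC⟩, ⟨w, hwC⟩,
          ⟨z * w, C.mul_mem hzC hwC⟩}) fun c _ => ?_) Finset.card_le_four
        rcases hCc c c.2 with e | e | e | e <;> simp [Subtype.ext_iff, e]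
      have hge : 4 ∣ Nat.card C :=
        four_dvd_card hP C hzC hwC h.z_ne h.w_ne (Ne.symm h.ne)
      rw [← C.card_mul_index, hCi2]
      have := Nat.card_pos (α := C)
      have := Nat.le_of_dvd this hge
      omega
    exact MaxClass.Cyc2.dihedral (m := 2) ⟨ha4, hcard, hxa⟩ hx hinv
  obtain ⟨d₀, hd₀, hd₀1, hd₀z⟩ := hbig
  refine Or.inl (hsum ▸ dvd_add hin ?_)
  -- a central element of order two of `D` modulo `z`
  let zD : D := ⟨z, hzD⟩
  haveI : (zpowers zD).Normal := ⟨fun y hy g => by
    obtain ⟨i, rfl⟩ := mem_zpowers_iff.1 hy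
    have : g * zD = zD * g := Subtype.ext (h.central g)
    rw [(show Commute g zD from this).zpow_right i, mul_inv_cancel_right]
    exact ⟨i, rfl⟩⟩
  have hzpow : ∀ y ∈ zpowers zD, y = 1 ∨ y = zD := by
    intro y hy
    obtain ⟨i, rfl⟩ := mem_zpowers_iff.1 hy
    have h2 : zD ^ (2 : ℤ) = 1 := by
      rw [show (2 : ℤ) = 1 + 1 from rfl, zpow_add, zpow_one]
      exact Subtype.ext h.hz
    rcases Int.even_or_odd' i with ⟨k, rfl | rfl⟩
    · exact Or.inl (by rw [zpow_mul, h2, one_zpow])
    · exact Or.inr (by rw [zpow_add, zpow_mul, h2, one_zpow, one_mul, zpow_one])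
  haveI : Nontrivial (D ⧸ zpowers zD) := ⟨⟨QuotientGroup.mk ⟨d₀, hd₀⟩, 1, fun e => by
    rcases hzpow _ ((QuotientGroup.eq_one_iff _).1 e) with e1 | e1
    · exact hd₀1 (congrArg Subtype.val e1)
    · exact hd₀z (congrArg Subtype.val e1)⟩⟩
  obtain ⟨m, hm⟩ := IsPGroup.iff_card.1 ((hP.to_subgroup D).to_quotient (zpowers zD))
  obtain ⟨eq, heq2, -, heqC⟩ := MaxClass.exists_central_involution_le hm
    (N := (⊤ : Subgroup (D ⧸ zpowers zD))) top_ne_bot
  obtain ⟨e, rfl⟩ := QuotientGroup.mk_surjective eq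
  have he1 : (e : P) ≠ 1 := fun e1 => by
    rw [show e = 1 from Subtype.ext e1, QuotientGroup.mk_one, orderOf_one] at heq2
    omega
  have hez : (e : P) ≠ z := fun e1 => by
    have e2 : e = zD := Subtype.ext e1
    rw [show (e : D ⧸ zpowers zD) = 1 from (QuotientGroup.eq_one_iff e).2
      (by rw [e2]; exact mem_zpowers zD), orderOf_one] at heq2
    omega
  let EE : Subgroup D := zpowers zD ⊔ zpowers e
  have hEE : 4 ∣ Nat.card EE := four_dvd_card (hP.to_subgroup D) EE
    (mem_sup_left (mem_zpowers zD)) (mem_sup_right (mem_zpowers e))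
    (fun e1 => h.z_ne (congrArg Subtype.val e1)) (fun e1 => he1 (congrArg Subtype.val e1))
    (fun e1 => hez (congrArg Subtype.val e1).symm)
  let T : Set D := {d | d * d ∈ zpowers zD}
  have hT : 4 ∣ Nat.card T := by
    refine hEE.trans (card_dvd_of_mul_stable EE T ?_)
    intro d hd g hg
    have hd' : ((d * d : D) : D ⧸ zpowers zD) = 1 := (QuotientGroup.eq_one_iff _).2 hd
    have hg' : (g : D ⧸ zpowers zD) ∈ zpowers ((e : D ⧸ zpowers zD)) := by
      have hm : EE.map (QuotientGroup.mk' (zpowers zD)) ≤ zpowers ((e : D ⧸ zpowers zD)) := by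
        rw [Subgroup.map_sup, MonoidHom.map_zpowers, MonoidHom.map_zpowers]
        refine sup_le ?_ le_rfl
        rw [show QuotientGroup.mk' (zpowers zD) zD = 1 from
          (QuotientGroup.eq_one_iff zD).2 (mem_zpowers zD), zpowers_one_eq_bot]
        exact bot_le
      exact hm (mem_map_of_mem _ hg)
    obtain ⟨i, hi⟩ := mem_zpowers_iff.1 hg'
    show d * g * (d * g) ∈ zpowers zD
    refine (QuotientGroup.eq_one_iff _).1 ?_
    have hc : Commute (d : D ⧸ zpowers zD) (e : D ⧸ zpowers zD) := mem_center_iff.1 heqC _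
    rw [QuotientGroup.mk_mul, QuotientGroup.mk_mul, ← hi, show (d : D ⧸ zpowers zD) *
      (e : D ⧸ zpowers zD) ^ i * ((d : D ⧸ zpowers zD) * (e : D ⧸ zpowers zD) ^ i) =
      (d : D ⧸ zpowers zD) * ((e : D ⧸ zpowers zD) ^ i * d) * (e : D ⧸ zpowers zD) ^ i by group,
      ← (hc.zpow_right i).eq, show (d : D ⧸ zpowers zD) * ((d : D ⧸ zpowers zD) *
      (e : D ⧸ zpowers zD) ^ i) * (e : D ⧸ zpowers zD) ^ i =
      ((d : D ⧸ zpowers zD) * d) * ((e : D ⧸ zpowers zD) ^ (i + i)) by rw [zpow_add]; group,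
      ← QuotientGroup.mk_mul, hd', one_mul, ← two_mul, zpow_mul, ← Int.ofNat_two, zpow_natCast,
      ← heq2, pow_orderOf_eq_one, one_zpow]
  refine hT.trans (dvd_of_eq ?_)
  classical
  -- `d ↦ x * d` or `x * d * w` is a bijection onto `U`
  have hcC : ∀ u : U, x * (u : P) ∈ C := fun u => by
    refine (hC _).2 ?_
    calc x * (u : P) * w = x * ((u : P) * w * (u : P)⁻¹) * u := by group
      _ = x * (w * z) * u := by rw [hCi _ u.2.2]
      _ = (x * w * x⁻¹) * (x * z) * u := by group
      _ = w * z * (z * x) * u := by rw [hCi x hxC, h.central x]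
      _ = w * (z * z) * (x * u) := by group
      _ = w * (x * u) := by rw [h.hz, mul_one]
  have hsq : ∀ d : P, d ∈ D → x * d * w * (x * d * w) = d * d * z := fun d hd => by
    obtain ⟨h1, h2⟩ := (hD d).1 hd
    calc x * d * w * (x * d * w) = (d * x) * w * (x * d) * w := by rw [← h2]; group
      _ = d * (x * w) * x * (d * w) := by group
      _ = d * (w * z * (x * x)) * (w * d) := by rw [hxw, h1]; group
      _ = d * (w * z * w) * d := by rw [hx, mul_one]; group
      _ = d * z * d := by rw [mul_assoc w z w, ← h.central w, ← mul_assoc w w z, h.hw, one_mul]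
      _ = d * d * z := by rw [mul_assoc, ← h.central d, mul_assoc]
  have hTz : ∀ d : T, ((d : D) : P) * ((d : D) : P) = 1 ∨ ((d : D) : P) * ((d : D) : P) = z := by
    rintro ⟨d, hd⟩
    rcases hzpow _ hd with e1 | e1
    · exact Or.inl (congrArg Subtype.val e1)
    · exact Or.inr (congrArg Subtype.val e1)
  have hfmem : ∀ d : T, (if ((d : D) : P) * ((d : D) : P) = 1 then x * ((d : D) : P)
      else x * ((d : D) : P) * w) ∈ U := by
    intro d
    obtain ⟨h1, h2⟩ := (hD _).1 (d : D).2
    split_ifs with hd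
    · exact ⟨by rw [mul_assoc x, ← mul_assoc _ x, h2, mul_assoc x, hd, mul_one, hx],
        fun e1 => hxC ((mul_mem_cancel_right (mem_inf.1 (d : D).2).1).1 e1)⟩
    · exact ⟨by rw [hsq _ (d : D).2, (hTz d).resolve_left hd, h.hz],
        fun e1 => hxC ((mul_mem_cancel_right (mem_inf.1 (d : D).2).1).1 ((mul_mem_cancel_right hwC).1 e1))⟩
  have hgmem : ∀ u : U, x * (u : P) ∈ D → (x * (u : P)) * (x * (u : P)) = 1 := fun u hu => by
    calc x * (u : P) * (x * u) = (x * u) * x * u := by group
      _ = x * (x * u) * u := by rw [((hD _).1 hu).2]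
      _ = (x * x) * (u * u) := by group
      _ = 1 := by rw [hx, u.2.1, mul_one]
  have hgmem' : ∀ u : U, x * (u : P) ∉ D → x * (u : P) * w ∈ D ∧
      x * (u : P) * w * (x * (u : P) * w) = z := fun u hu => by
    have hd := (hcov _ (hcC u)).resolve_left hu
    refine ⟨hd, ?_⟩
    have e1 := hsq _ hd
    rw [show x * (x * (u : P) * w) * w = (x * x) * u * (w * w) by group, hx, h.hw, one_mul, mul_one,
      u.2.1] at e1
    calc x * (u : P) * w * (x * u * w) = x * u * w * (x * u * w) * (z * z) := by rw [h.hz, mul_one]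
      _ = z := by rw [← mul_assoc _ z z, ← e1, one_mul]
  refine Nat.card_congr
    { toFun := fun d => ⟨_, hfmem d⟩
      invFun := fun u => if hu : x * (u : P) ∈ D
        then ⟨⟨_, hu⟩, by
          show (_ : D) ∈ zpowers zD
          rw [show (⟨_, hu⟩ * ⟨_, hu⟩ : D) = 1 from Subtype.ext (hgmem u hu)]
          exact one_mem _⟩
        else ⟨⟨_, (hgmem' u hu).1⟩, by
          show (_ : D) ∈ zpowers zD
          rw [show (⟨_, (hgmem' u hu).1⟩ * ⟨_, (hgmem' u hu).1⟩ : D) = zD from
            Subtype.ext (hgmem' u hu).2]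
          exact mem_zpowers zD⟩
      left_inv := fun d => by
        have hxd : ∀ y : P, x * (x * y) = y := fun y => by rw [← mul_assoc, hx, one_mul]
        by_cases hd : ((d : D) : P) * ((d : D) : P) = 1
        · simp only [hd, ↓reduceIte, hxd, (d : D).2, ↓reduceDIte]
        · have hn : ((d : D) : P) * w ∉ D := fun e1 => hwD ((mul_mem_cancel_left (d : D).2).1 e1)
          simp only [hd, ↓reduceIte, mul_assoc x ((d : D) : P) w, hxd, hn, ↓reduceDIte]
          exact Subtype.ext (Subtype.ext (by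
            show ((d : D) : P) * w * w = _
            rw [mul_assoc, h.hw, mul_one]))
      right_inv := fun u => by
        refine Subtype.ext ?_
        by_cases hu : x * (u : P) ∈ D
        · simp only [hu, ↓reduceDIte, hgmem u hu, ↓reduceIte]
          rw [← mul_assoc, hx, one_mul]
        · simp only [hu, ↓reduceDIte, (hgmem' u hu).2, h.z_ne, ↓reduceIte]
          rw [show x * (x * (u : P) * w) * w = (x * x) * u * (w * w) by group, hx, h.hw, one_mul, mul_one] }

/-- The number of solutions of `x * x = 1` in a 2-group: divisible by four, or the group is cyclic,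
quaternion, dihedral or quasi-dihedral. -/
theorem count_two_group (hP : IsPGroup 2 P) :
    4 ∣ Nat.card (sqrtOne P) ∨ IsCyclic P ∨ (∃ k : ℕ, Nonempty (P ≃* QuaternionGroup k)) ∨
      (∃ k : ℕ, 4 ≤ k ∧ Nonempty (P ≃* DihedralGroup k)) ∨ Cfsg.IsQuasiDihedral P := by
  haveI : Fact (Nat.Prime 2) := ⟨Nat.prime_two⟩
  by_cases hn : ∀ A : Subgroup P, A.Normal → IsMulCommutative A → IsCyclic A
  · rcases NAC.classify hP hn with hc | ⟨-, hq | ⟨k, hk, hd⟩ | hs⟩
    · exact Or.inr (Or.inl hc)
    · exact Or.inr (Or.inr (Or.inl hq))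
    · exact Or.inr (Or.inr (Or.inr (Or.inl ⟨k, by omega, hd⟩)))
    · exact Or.inr (Or.inr (Or.inr (Or.inr hs)))
  · push Not at hn
    obtain ⟨A, hA1, hA2, hA3⟩ := hn
    obtain ⟨z, w, h⟩ := exists_normalFour hP hA1 hA2 hA3
    rcases count_of_normalFour hP h with h4 | hd
    · exact Or.inl h4
    · exact Or.inr (Or.inr (Or.inr (Or.inl ⟨4, le_rfl, hd⟩)))

end Cfsg.Agent.Invol.AbgConsumers
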