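import Cfsg.Agent.Lib.Invol.AbgConsumers.CountTwoGroup
import Cfsg.Agent.Lib.Invol.AbgConsumers.RankTwo
import Cfsg.Agent.Lib.Lie.TwoPronormalPSL

/-!
# Simple groups whose number of involutions is congruent to one modulo four
-/

set_option autoImplicit false
set_option linter.style.haveILetI false

namespace Cfsg.Agent.Invol.AbgConsumers

universe u

open Subgroup

variable {G : Type u} [Group G] [Finite G]

/-- Two commuting fixed-point-free involutions with fixed-point-free product. -/
theorem four_dvd_of_perms {α : Type*} [Finite α] (f g : α → α) (hff : ∀ x, f (f x) = x)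
    (hgg : ∀ x, g (g x) = x) (hfg : ∀ x, f (g x) = g (f x)) (hf : ∀ x, f x ≠ x) (hg : ∀ x, g x ≠ x)
    (h : ∀ x, f (g x) ≠ x) : 4 ∣ Nat.card α := by
  classical
  letI : Fintype α := Fintype.ofFinite α
  rw [Nat.card_eq_fintype_card, ← Finset.card_univ]
  suffices key : ∀ s : Finset α, (∀ x ∈ s, f x ∈ s ∧ g x ∈ s) → 4 ∣ s.card from key _ (by simp)
  intro s
  induction s using Finset.strongInduction with
  | H s ih =>
    intro hs
    by_cases he : s = ∅
    · simp [he]
    obtain ⟨x, hx⟩ := Finset.nonempty_of_ne_empty he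
    let q : Finset α := {x, f x, g x, f (g x)}
    have hqs : q ⊆ s := by
      simp only [q, Finset.insert_subset_iff, Finset.singleton_subset_iff]
      exact ⟨hx, (hs x hx).1, (hs x hx).2, (hs _ (hs x hx).2).1⟩
    have e1 : f x ≠ g x := fun e => h x (by rw [← e, hff])
    have e2 : f x ≠ f (g x) := fun e => hg x (by
      have := congrArg f e
      rw [hff, hff] at this
      exact this.symm)
    have hq : q.card = 4 := by
      simp only [q]
      rw [Finset.card_insert_of_notMem, Finset.card_insert_of_notMem, Finset.card_pair]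
      · exact Ne.symm (hf (g x))
      · simp [e1, e2]
      · simp [Ne.symm (hf x), Ne.symm (hg x), Ne.symm (h x)]
    have hrest : 4 ∣ (s \ q).card := by
      refine ih _ (Finset.sdiff_ssubset hqs ⟨x, by simp [q]⟩) fun y hy => ?_
      obtain ⟨hys, hyq⟩ := Finset.mem_sdiff.1 hy
      refine ⟨Finset.mem_sdiff.2 ⟨(hs y hys).1, fun e => hyq ?_⟩,
        Finset.mem_sdiff.2 ⟨(hs y hys).2, fun e => hyq ?_⟩⟩
      · simp only [q, Finset.mem_insert, Finset.mem_singleton] at e ⊢
        rcases e with e | e | e | e <;> have e' := congrArg f e <;> simp only [hff] at e' <;> simp [e']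
      · simp only [q, Finset.mem_insert, Finset.mem_singleton] at e ⊢
        rcases e with e | e | e | e <;> have e' := congrArg g e <;>
          simp only [hgg, ← hfg] at e' <;> simp [e', hfg, hgg]
    rw [← Finset.sdiff_union_of_subset hqs, Finset.card_union_of_disjoint Finset.sdiff_disjoint, hq]
    exact dvd_add hrest (dvd_refl 4)

/-- The 2-group `P` and a four-group it normalizes generate a 2-group. -/
theorem mem_sylow_of_normalized (P : Sylow 2 G) {x z : G} (hz : z ∈ (P : Subgroup G)) (hx2 : x * x = 1)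
    (hz2 : z * z = 1) (hxz : x * z = z * x)
    (h : ∀ p ∈ (P : Subgroup G), (p * x * p⁻¹ = x ∨ p * x * p⁻¹ = x * z) ∧ p * z = z * p) :
    x ∈ (P : Subgroup G) := by
  haveI : Fact (Nat.Prime 2) := ⟨Nat.prime_two⟩
  let W : Subgroup G := closure {x, z}
  have hcomm : ∀ a ∈ ({x, z} : Set G), ∀ b ∈ ({x, z} : Set G), a * b = b * a := by
    rintro a (rfl | rfl) b (rfl | rfl) <;> first | rfl | exact hxz | exact hxz.symm
  have hWp : IsPGroup 2 W := by
    intro ⟨a, ha⟩
    refine ⟨1, Subtype.ext ?_⟩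
    rw [pow_one]
    show a ^ 2 = 1
    haveI := Subgroup.isMulCommutative_closure hcomm
    induction ha using closure_induction with
    | mem a ha => rcases ha with rfl | rfl <;> rw [pow_two] <;> assumption
    | one => exact one_pow 2
    | mul a b ha hb iha ihb =>
      have : Commute a b := congrArg Subtype.val ((isMulCommutative_closure hcomm).is_comm.comm
        (⟨a, ha⟩ : closure ({x, z} : Set G)) ⟨b, hb⟩)
      rw [this.mul_pow, iha, ihb, one_mul]
    | inv a _ iha => rw [inv_pow, iha, inv_one]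
  have hW : ∀ p ∈ (P : Subgroup G), ∀ w ∈ W, p * w * p⁻¹ ∈ W := by
    intro p hp w hw
    induction hw using closure_induction with
    | mem a ha =>
      rcases ha with rfl | rfl
      · rcases (h p hp).1 with e | e <;> rw [e]
        · exact subset_closure (by simp)
        · exact W.mul_mem (subset_closure (by simp)) (subset_closure (by simp))
      · rw [(h p hp).2, mul_inv_cancel_right]; exact subset_closure (by simp)
    | one => simp
    | mul a b _ _ iha ihb =>
      rw [show p * (a * b) * p⁻¹ = (p * a * p⁻¹) * (p * b * p⁻¹) by group]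
      exact W.mul_mem iha ihb
    | inv a _ iha =>
      rw [show p * a⁻¹ * p⁻¹ = (p * a * p⁻¹)⁻¹ by group]
      exact W.inv_mem iha
  have hn : (P : Subgroup G) ≤ normalizer (W : Set G) := fun p hp =>
    mem_normalizer_iff.2 fun w => ⟨hW p hp w, fun hw => by
      have := hW p⁻¹ ((P : Subgroup G).inv_mem hp) _ hw
      rwa [inv_inv, show p⁻¹ * (p * w * p⁻¹) * p = w by group] at this⟩
  have heq : (P : Subgroup G) ⊔ W = P :=
    P.is_maximal' (P.isPGroup'.to_sup_of_normal_right' hWp hn) le_sup_left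
  exact heq ▸ mem_sup_right (subset_closure (by simp : x ∈ ({x, z} : Set G)))

/-- The solutions of `x * x = 1` outside a Sylow 2-subgroup of order at least four. -/
theorem four_dvd_outside (P : Sylow 2 G) (h4 : 4 ≤ Nat.card P) :
    4 ∣ Nat.card {x : G | x * x = 1 ∧ x ∉ (P : Subgroup G)} := by
  haveI : Fact (Nat.Prime 2) := ⟨Nat.prime_two⟩
  classical
  let X : Set G := {x | x * x = 1 ∧ x ∉ (P : Subgroup G)}
  let K : G → Subgroup G := fun x => (P : Subgroup G) ⊓ centralizer ({x} : Set G)
  have hK : ∀ x p : G, p ∈ K x ↔ p ∈ (P : Subgroup G) ∧ p * x = x * p := fun x p => by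
    simp only [K, mem_inf, mem_centralizer_singleton_iff]
  have hsum : Nat.card X = Nat.card {x : X | (K x).relIndex (P : Subgroup G) = 2} +
      Nat.card {x : X | (K x).relIndex (P : Subgroup G) ≠ 2} := by
    rw [Nat.card_coe_set_eq {x : X | (K x).relIndex (P : Subgroup G) = 2},
      Nat.card_coe_set_eq {x : X | (K x).relIndex (P : Subgroup G) ≠ 2}]
    exact (Set.ncard_add_ncard_compl {x : X | (K x).relIndex (P : Subgroup G) = 2}).symm
  show 4 ∣ Nat.card X
  rw [hsum]
  have hconj : ∀ (p : G), p ∈ (P : Subgroup G) → ∀ x ∈ X, p * x * p⁻¹ ∈ X := fun p hp x hx =>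
    ⟨by rw [conj_sq, hx.1, mul_one, mul_inv_cancel], fun e => hx.2 (by
      have := (P : Subgroup G).mul_mem ((P : Subgroup G).mul_mem ((P : Subgroup G).inv_mem hp) e) hp
      rwa [show p⁻¹ * (p * x * p⁻¹) * p = x by group] at this)⟩
  have hne1 : ∀ x ∈ X, ∃ p ∈ (P : Subgroup G), p * x ≠ x * p := by
    intro x hx
    by_contra hc
    push Not at hc
    refine hx.2 (mem_sylow_of_normalized P (z := 1) (one_mem _) hx.1 (one_mul 1) (by simp) fun p hp =>
      ⟨Or.inl (mul_inv_eq_iff_eq_mul.2 (hc p hp)), by simp⟩)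
  refine dvd_add ?_ ?_
  · -- stabilizer of index two
    let Y : Set X := {x : X | (K x).relIndex (P : Subgroup G) = 2}
    let c : Y → Subgroup G := fun y => K (y : X)
    haveI : Finite (Subgroup G) := Finite.of_injective _ SetLike.coe_injective
    letI : Fintype (Subgroup G) := Fintype.ofFinite _
    rw [Nat.card_congr (Equiv.sigmaFiberEquiv c).symm, Nat.card_sigma]
    refine Finset.dvd_sum fun M _ => ?_
    rcases isEmpty_or_nonempty {y : Y // c y = M} with he | ⟨⟨y₀, hy₀⟩⟩
    · simp
    have hMP : M ≤ P := hy₀ ▸ inf_le_left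
    have hM2 : (M.subgroupOf (P : Subgroup G)).index = 2 := hy₀ ▸ y₀.2
    haveI hMn : (M.subgroupOf (P : Subgroup G)).Normal := normal_of_index_eq_two hM2
    have hMne : M.subgroupOf (P : Subgroup G) ≠ ⊥ := fun e => by
      rw [e, index_bot] at hM2
      omega
    obtain ⟨n, hn⟩ := IsPGroup.iff_card.1 P.isPGroup'
    obtain ⟨z, hz2, hzM, hzC⟩ := MaxClass.exists_central_involution_le hn hMne
    have hz1 : (z : G) ≠ 1 := fun e => by
      rw [show z = 1 from Subtype.ext e, orderOf_one] at hz2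
      omega
    have hzz : (z : G) * z = 1 := by
      have := pow_orderOf_eq_one z
      rw [hz2, pow_two] at this
      exact congrArg Subtype.val this
    have hzp : ∀ p ∈ (P : Subgroup G), p * (z : G) = z * p := fun p hp =>
      congrArg Subtype.val (mem_center_iff.1 hzC ⟨p, hp⟩)
    obtain ⟨t, htP, htM⟩ : ∃ t ∈ (P : Subgroup G), t ∉ M := by
      by_contra hc
      push Not at hc
      rw [show M.subgroupOf (P : Subgroup G) = ⊤ from subgroupOf_eq_top.2 hc, index_top] at hM2
      omega
    let Z : Set G := {x | x ∈ X ∧ K x = M}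
    have e : {y : Y // c y = M} ≃ Z :=
      { toFun := fun y => ⟨((y.1 : X) : G), (y.1 : X).2, y.2⟩
        invFun := fun x => ⟨⟨⟨x, x.2.1⟩, by
          show (K (x : G)).relIndex (P : Subgroup G) = 2
          rw [x.2.2]; exact hM2⟩, x.2.2⟩
        left_inv := fun _ => rfl
        right_inv := fun _ => rfl }
    rw [Nat.card_congr e]
    have hxz : ∀ x ∈ Z, x * (z : G) = z * x := fun x hx =>
      (((hK x z).1 (hx.2 ▸ (mem_subgroupOf.1 hzM))).2).symm
    have hZz : ∀ x ∈ Z, x * (z : G) ∈ Z := fun x hx => by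
      refine ⟨⟨by rw [show x * (z : G) * (x * z) = x * (z * x) * z by group, ← hxz x hx,
        show x * (x * (z : G)) * z = (x * x) * (z * z) by group, hx.1.1, hzz, mul_one],
        fun e => hx.1.2 ((mul_mem_cancel_right z.2).1 e)⟩, ?_⟩
      rw [← hx.2]
      ext p
      rw [hK, hK]
      refine and_congr_right fun hp => ?_
      rw [← mul_assoc, mul_assoc x, ← hzp p hp, ← mul_assoc x, mul_left_inj]
    have hnorm : ∀ p ∈ (P : Subgroup G), ∀ m ∈ M, p * m * p⁻¹ ∈ M := fun p hp m hm =>
      mem_subgroupOf.1 (hMn.conj_mem ⟨m, hMP hm⟩ (mem_subgroupOf.2 hm) ⟨p, hp⟩)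
    have hZt : ∀ x ∈ Z, t * x * t⁻¹ ∈ Z := fun x hx => by
      refine ⟨hconj t htP x hx.1, ?_⟩
      ext p
      rw [hK]
      constructor
      · rintro ⟨hp, hc⟩
        have h1 : t⁻¹ * p * t ∈ M := by
          rw [← hx.2, hK]
          refine ⟨(P : Subgroup G).mul_mem ((P : Subgroup G).mul_mem ((P : Subgroup G).inv_mem htP) hp) htP, ?_⟩
          calc t⁻¹ * p * t * x = t⁻¹ * (p * (t * x * t⁻¹)) * t := by group
            _ = t⁻¹ * (t * x * t⁻¹ * p) * t := by rw [hc]
            _ = x * (t⁻¹ * p * t) := by group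
        have := hnorm t htP _ h1
        rwa [show t * (t⁻¹ * p * t) * t⁻¹ = p by group] at this
      · intro hp
        refine ⟨hMP hp, ?_⟩
        have h1 := hnorm t⁻¹ ((P : Subgroup G).inv_mem htP) p hp
        rw [inv_inv, ← hx.2, hK] at h1
        calc p * (t * x * t⁻¹) = t * (t⁻¹ * p * t * x) * t⁻¹ := by group
          _ = t * (x * (t⁻¹ * p * t)) * t⁻¹ := by rw [h1.2]
          _ = t * x * t⁻¹ * p := by group
    have htt : t * t ∈ M := mem_subgroupOf.1 (mul_self_mem_of_index_two hM2 ⟨t, htP⟩)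
    have htx : ∀ x ∈ Z, t * x ≠ x * t := fun x hx e => htM (by rw [← hx.2, hK]; exact ⟨htP, e⟩)
    refine four_dvd_of_perms (fun x : Z => ⟨(x : G) * z, hZz x x.2⟩)
      (fun x : Z => ⟨t * x * t⁻¹, hZt x x.2⟩)
      (fun x => Subtype.ext (by show (x : G) * z * z = x; rw [mul_assoc, hzz, mul_one]))
      (fun x => Subtype.ext (by
        have h1 : t * t * (x : G) = x * (t * t) := ((hK _ _).1 (x.2.2 ▸ htt)).2
        show t * (t * x * t⁻¹) * t⁻¹ = x
        rw [show t * (t * (x : G) * t⁻¹) * t⁻¹ = (t * t * x) * (t⁻¹ * t⁻¹) by group, h1]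
        group))
      (fun x => Subtype.ext (by
        show t * (x : G) * t⁻¹ * z = t * (x * z) * t⁻¹
        rw [mul_assoc (t * (x : G)), hzp _ ((P : Subgroup G).inv_mem htP)]
        group))
      (fun x e => hz1 (mul_eq_left.1 (congrArg Subtype.val e)))
      (fun x e => htx x x.2 (mul_inv_eq_iff_eq_mul.1 (congrArg Subtype.val e)))
      (fun x e => x.2.1.2 ?_)
    have e' : t * (x : G) * t⁻¹ * z = x := congrArg Subtype.val e
    have ht' : t * (x : G) * t⁻¹ = x * z := by
      calc t * (x : G) * t⁻¹ = t * x * t⁻¹ * z * z := by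
            rw [mul_assoc (t * (x : G) * t⁻¹), hzz, mul_one]
        _ = x * z := by rw [e']
    refine mem_sylow_of_normalized P z.2 x.2.1.1 hzz (hxz x x.2) fun p hp => ⟨?_, hzp p hp⟩
    by_cases hpM : p ∈ M
    · left
      rw [← x.2.2, hK] at hpM
      exact mul_inv_eq_iff_eq_mul.2 hpM.2
    · right
      have h1 : t⁻¹ * p ∈ M := by
        have := (mul_mem_iff_of_index_two hM2 (a := (⟨t, htP⟩ : (P : Subgroup G))⁻¹) (b := ⟨p, hp⟩)).2
          (iff_of_false (fun e => htM (by simpa using M.inv_mem (mem_subgroupOf.1 e)))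
            (fun e => hpM (mem_subgroupOf.1 e)))
        exact mem_subgroupOf.1 this
      rw [← x.2.2, hK] at h1
      rw [show p * (x : G) * p⁻¹ = t * (t⁻¹ * p * x * (t⁻¹ * p)⁻¹) * t⁻¹ by group,
        mul_inv_eq_iff_eq_mul.2 h1.2, ht']
  · let Y : Set X := {x : X | (K x).relIndex (P : Subgroup G) ≠ 2}
    show 4 ∣ Nat.card Y
    have hmem : ∀ (p : (P : Subgroup G)) (y : Y),
        (⟨(p : G) * ((y : X) : G) * (p : G)⁻¹, hconj p p.2 _ (y : X).2⟩ : X) ∈ Y := by
      intro p y
      have e : K ((p : G) * ((y : X) : G) * (p : G)⁻¹) =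
          (K ((y : X) : G)).map (MulAut.conj (p : G)).toMonoidHom := by
        ext g
        rw [mem_map]
        constructor
        · intro hg
          rw [hK] at hg
          refine ⟨(p : G)⁻¹ * g * p, (hK _ _).2 ⟨(P : Subgroup G).mul_mem ((P : Subgroup G).mul_mem
            ((P : Subgroup G).inv_mem p.2) hg.1) p.2, ?_⟩, by simp; group⟩
          calc (p : G)⁻¹ * g * p * ((y : X) : G) = (p : G)⁻¹ * (g * (p * (y : X) * (p : G)⁻¹)) * p := by
                group
            _ = (p : G)⁻¹ * (p * (y : X) * (p : G)⁻¹ * g) * p := by rw [hg.2]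
            _ = ((y : X) : G) * ((p : G)⁻¹ * g * p) := by group
        · rintro ⟨a, ha, rfl⟩
          rw [hK] at ha ⊢
          refine ⟨(P : Subgroup G).mul_mem ((P : Subgroup G).mul_mem p.2 ha.1) ((P : Subgroup G).inv_mem p.2), ?_⟩
          simp only [MulEquiv.toMonoidHom_eq_coe, MonoidHom.coe_coe, MulAut.conj_apply]
          calc (p : G) * a * (p : G)⁻¹ * (p * (y : X) * (p : G)⁻¹) = p * (a * (y : X)) * (p : G)⁻¹ := by group
            _ = p * ((y : X) * a) * (p : G)⁻¹ := by rw [ha.2]
            _ = _ := by group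
      show (K ((p : G) * ((y : X) : G) * (p : G)⁻¹)).relIndex (P : Subgroup G) ≠ 2
      have hc : Nat.card (K ((p : G) * ((y : X) : G) * (p : G)⁻¹)) = Nat.card (K ((y : X) : G)) := by
        rw [e]
        exact Nat.card_congr ((K _).equivMapOfInjective _ (MulAut.conj (p : G)).injective).toEquiv.symm
      intro h2
      refine y.2 ?_
      have c1 : ∀ x : G, (K x).relIndex (P : Subgroup G) * Nat.card (K x) = Nat.card P := fun x => by
        rw [mul_comm, ← Nat.card_congr (subgroupOfEquivOfLe (inf_le_left : K x ≤ P)).toEquiv]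
        exact card_mul_index _
      have a1 := c1 ((p : G) * ((y : X) : G) * (p : G)⁻¹)
      rw [h2, hc, ← c1 ((y : X) : G)] at a1
      exact (Nat.eq_of_mul_eq_mul_right Nat.card_pos a1).symm
    letI : MulAction (P : Subgroup G) Y :=
      { smul := fun p y => ⟨_, hmem p y⟩
        one_smul := fun y => Subtype.ext (Subtype.ext (by
          show (1 : G) * ((y : X) : G) * (1 : G)⁻¹ = _; group))
        mul_smul := fun a b y => Subtype.ext (Subtype.ext (by
          show ((a : G) * b) * ((y : X) : G) * ((a : G) * b)⁻¹ =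
            a * (b * ((y : X) : G) * (b : G)⁻¹) * (a : G)⁻¹
          group)) }
    refine four_dvd_of_orbits P.isPGroup' fun y => ?_
    have hst : MulAction.stabilizer (P : Subgroup G) y = (K ((y : X) : G)).subgroupOf (P : Subgroup G) := by
      ext p
      rw [MulAction.mem_stabilizer_iff, mem_subgroupOf, hK]
      exact ⟨fun e => ⟨p.2, mul_inv_eq_iff_eq_mul.1 (congrArg (fun t : Y => ((t : X) : G)) e)⟩,
        fun e => Subtype.ext (Subtype.ext (mul_inv_eq_iff_eq_mul.2 e.2))⟩
    rw [hst]
    refine ⟨fun e => ?_, y.2⟩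
    obtain ⟨p, hp, hpn⟩ := hne1 _ (y : X).2
    rw [index_eq_one, subgroupOf_eq_top] at e
    exact hpn ((hK _ _).1 (e hp)).2

/-- The number of involutions is congruent to three modulo four unless the Sylow 2-subgroups are
cyclic or of maximal class. -/
theorem sylow_of_count (h : Nat.card {t : G // orderOf t = 2} % 4 ≠ 3) (P : Sylow 2 G) :
    IsCyclic P ∨ (∃ k : ℕ, Nonempty (P ≃* QuaternionGroup k)) ∨
      (∃ k : ℕ, 4 ≤ k ∧ Nonempty (P ≃* DihedralGroup k)) ∨ Cfsg.IsQuasiDihedral P := by
  haveI : Fact (Nat.Prime 2) := ⟨Nat.prime_two⟩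
  by_cases h4 : 4 ≤ Nat.card P
  swap
  · refine Or.inl ?_
    obtain ⟨n, hn⟩ := IsPGroup.iff_card.1 P.isPGroup'
    rcases n with _ | _ | n
    · haveI : Subsingleton P := (Nat.card_eq_one_iff_unique.1 (by simpa using hn)).1
      infer_instance
    · exact isCyclic_of_prime_card (p := 2) (by simpa using hn)
    · exact absurd (by rw [hn, pow_succ, pow_succ]; have := Nat.one_le_two_pow (n := n); omega) h4
  refine (count_two_group P.isPGroup').resolve_left fun hc => h ?_
  have e1 : Nat.card {x : G | x * x = 1} = Nat.card {x : G | x * x = 1 ∧ x ∈ (P : Subgroup G)} +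
      Nat.card {x : G | x * x = 1 ∧ x ∉ (P : Subgroup G)} := by
    rw [Nat.card_coe_set_eq, Nat.card_coe_set_eq, Nat.card_coe_set_eq]
    exact (Set.ncard_inter_add_ncard_sdiff_eq_ncard {x : G | x * x = 1} ((P : Subgroup G) : Set G)).symm
  have e2 : Nat.card {x : G | x * x = 1 ∧ x ∈ (P : Subgroup G)} = Nat.card (sqrtOne P) :=
    Nat.card_congr
      { toFun := fun x => ⟨⟨x, x.2.2⟩, Subtype.ext x.2.1⟩
        invFun := fun x => ⟨x.1, congrArg Subtype.val x.2, x.1.2⟩
        left_inv := fun _ => rfl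
        right_inv := fun _ => rfl }
  have e3 : Nat.card {x : G | x * x = 1} = Nat.card {t : G // orderOf t = 2} + 1 := by
    rw [Nat.card_coe_set_eq, show Nat.card {t : G // orderOf t = 2} = {t : G | orderOf t = 2}.ncard from
      Nat.card_coe_set_eq _, ← Set.ncard_insert_of_notMem (a := (1 : G))
      (by simp [orderOf_one]) (Set.toFinite _)]
    congr 1
    ext x
    simp only [Set.mem_insert_iff, Set.mem_ofPred_eq, ← pow_two, orderOf_eq_prime_iff]
    by_cases hx : x = 1 <;> simp [hx]
  have hd := dvd_add hc (four_dvd_outside P h4)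
  rw [← e2, ← e1, e3] at hd
  omega

theorem mod_eight_of_dvd {q N : ℕ} (ho : Odd q) (hN : N * 2 = q * ((q - 1) * (q + 1))) (h8 : 8 ∣ N) :
    q % 8 = 1 ∨ q % 8 = 7 := by
  have h16 : 16 ∣ q * ((q - 1) * (q + 1)) := hN ▸ mul_dvd_mul_right h8 2
  have hc : Nat.Coprime 16 q := (Nat.coprime_two_left.2 ho).pow_left 4
  have h1 : 16 ∣ (q - 1) * (q + 1) := hc.dvd_of_dvd_mul_left h16
  have h2 : ((q - 1) * (q + 1)) % 16 = 0 := Nat.mod_eq_zero_of_dvd h1
  rw [Nat.mul_mod] at h2
  have hq := Nat.odd_iff.1 ho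
  have h3 : q % 16 < 16 := Nat.mod_lt _ (by norm_num)
  have e1 : (q - 1) % 16 = q % 16 - 1 := by omega
  have e2 : (q + 1) % 16 = (q % 16 + 1) % 16 := by omega
  rw [e1, e2] at h2
  rw [← Nat.mod_mod_of_dvd q (show 8 ∣ 16 by norm_num)]
  have h4 : q % 16 % 2 = 1 := by omega
  generalize q % 16 = r at h2 h3 h4 ⊢
  interval_cases r <;> simp_all

/-- Simple groups whose number of involutions is congruent to one modulo four. -/
theorem involution_count_one_mod_four (hSD : SDStmt.{u}) [IsSimpleGroup G]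
    (hI : Nat.card {t : G // orderOf t = 2} % 4 = 1) :
    Nat.card G = 2 ∨ Nonempty (G ≃* alternatingGroup (Fin 7)) ∨ Cfsg.IsM11 G ∨
      (∃ (F : Type) (_ : Field F) (_ : Fintype F), 3 < Fintype.card F ∧
        (Fintype.card F % 8 = 1 ∨ Fintype.card F % 8 = 7) ∧
        Nonempty (G ≃* Matrix.ProjectiveSpecialLinearGroup (Fin 2) F)) ∨
      (∃ (F : Type) (_ : Field F) (_ : Fintype F), Fintype.card F % 4 = 3 ∧
        Nonempty (G ≃* Matrix.ProjectiveSpecialLinearGroup (Fin 3) F)) ∨
      (∃ (F : Type) (_ : Field F) (_ : Fintype F) (q : ℕ), Fintype.card F = q ^ 2 ∧ q % 4 = 1 ∧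
        Nonempty (G ≃* Cfsg.PSU 3 F q)) := by
  haveI : Fact (Nat.Prime 2) := ⟨Nat.prime_two⟩
  obtain ⟨⟨t, ht⟩⟩ : Nonempty {t : G // orderOf t = 2} := (Nat.card_pos_iff.1 (by omega)).1
  have h2 : 2 ∣ Nat.card G := ht ▸ _root_.orderOf_dvd_natCard t
  by_cases hcyc : IsCyclic G
  · left
    haveI := hcyc
    letI : CommGroup G := IsCyclic.commGroup
    exact ((Nat.prime_dvd_prime_iff_eq Nat.prime_two IsSimpleGroup.prime_card).1 h2).symm
  right
  obtain ⟨P⟩ : Nonempty (Sylow 2 G) := Sylow.nonempty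
  obtain ⟨E, hE⟩ := SmallCent.exists_klein hcyc (even_iff_two_dvd.2 h2)
  have hEp : IsPGroup 2 E := IsPGroup.of_card (n := 2) (IsKleinFour.card_four (G := E))
  obtain ⟨Q, hQ⟩ := hEp.exists_le_sylow
  rcases sylow_of_count (by omega) Q with hc | ⟨k, ⟨e⟩⟩ | ⟨k, hk, he⟩ | hs
  · exfalso
    haveI := hc
    haveI : IsCyclic E :=
      isCyclic_of_injective (Subgroup.inclusion hQ) (Subgroup.inclusion_injective hQ)
    exact (IsKleinFour.not_isCyclic (G := E)) inferInstance
  · exfalso
    rcases Nat.eq_zero_or_pos k with rfl | hk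
    · have := Nat.card_congr e.toEquiv
      haveI hinf : Infinite (QuaternionGroup 0) := Infinite.of_injective (β := ℤ)
        (fun i => QuaternionGroup.a i) fun i j hij => QuaternionGroup.a.inj hij
      rw [show Nat.card (QuaternionGroup 0) = 0 from Nat.card_eq_zero_of_infinite] at this
      exact absurd this Nat.card_pos.ne'
    haveI : NeZero k := ⟨hk.ne'⟩
    let φ : E →* QuaternionGroup k := e.toMonoidHom.comp (Subgroup.inclusion hQ)
    have hφ : Function.Injective φ := e.injective.comp (Subgroup.inclusion_injective hQ)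
    refine SmallCent.quaternion_no_klein φ.range ?_
    have ee := MonoidHom.ofInjective hφ
    exact ⟨by rw [← Nat.card_congr ee.toEquiv]; exact IsKleinFour.card_four (G := E),
      by rw [← Monoid.exponent_eq_of_mulEquiv ee]; exact IsKleinFour.exponent_two (G := E)⟩
  · have hna : ¬ IsMulCommutative G := SmallCent.not_comm_of_simple hcyc
    rcases dihedral_cases hna Q k (by omega) he with ⟨F, i1, i2, ho, h3, hf⟩ | hf
    · refine Or.inr (Or.inr (Or.inl ⟨F, i1, i2, h3, ?_, hf⟩))
      obtain ⟨f⟩ := hf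
      obtain ⟨e⟩ := he
      obtain ⟨n, hn⟩ := IsPGroup.iff_card.1 Q.isPGroup'
      have hk' := Nat.card_congr e.toEquiv
      rw [hn, DihedralGroup.nat_card] at hk'
      have h8 : 8 ∣ Nat.card (Matrix.ProjectiveSpecialLinearGroup (Fin 2) F) := by
        rw [← Nat.card_congr f.toEquiv]
        refine dvd_trans ?_ (Subgroup.card_subgroup_dvd_card (Q : Subgroup G))
        rw [hn]
        have h3n : 3 ≤ n := by
          by_contra hn3
          have : 2 ^ n ≤ 2 ^ 2 := Nat.pow_le_pow_right (by norm_num) (by omega)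
          omega
        exact (show 8 = 2 ^ 3 from rfl) ▸ pow_dvd_pow 2 h3n
      exact mod_eight_of_dvd ho (Lie.TwoPronormalPSL.card_psl_two ho) h8
    · exact Or.inl hf
  · rcases hSD G Q hs with h | h | h
    · exact Or.inr (Or.inr (Or.inr (Or.inl h)))
    · exact Or.inr (Or.inr (Or.inr (Or.inr h)))
    · exact Or.inr (Or.inl h)

end Cfsg.Agent.Invol.AbgConsumers
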