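import Cfsg.Agent.S1221
import Cfsg.Agent.S2903
import Cfsg.Agent.S0205
import Cfsg.Agent.Lib.Invol.SPEmbedded
import Cfsg.Agent.Lib.Grp.Cores

/-!
# Subgroups containing every involution centraliser of a Sylow 2-subgroup

In a simple group with one class of involutions whose Sylow 2-subgroups have 2-automorphism groups and
two involutions that do not commute, such a subgroup is the whole group.
-/

set_option autoImplicit false
set_option linter.style.haveILetI false

namespace Cfsg.Agent.Invol.AbgConsumers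

open Subgroup

universe u

variable {G : Type u} [Group G] [Finite G]

/-- A subgroup over a Sylow 2-subgroup with 2-automorphism group and its centraliser contains its
normaliser. -/
theorem normalizer_sylow_le (P : Sylow 2 G) (hAut : IsPGroup 2 (MulAut (P : Subgroup G))) {M : Subgroup G}
    (hP : (P : Subgroup G) ≤ M) (hc : centralizer ((P : Subgroup G) : Set G) ≤ M) :
    normalizer ((P : Subgroup G) : Set G) ≤ M := by
  haveI : Fact (Nat.Prime 2) := ⟨Nat.prime_two⟩
  set φ := (P : Subgroup G).normalizerMonoidHom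
  set K : Subgroup ↥(normalizer ((P : Subgroup G) : Set G)) :=
    M.subgroupOf (normalizer ((P : Subgroup G) : Set G)) with hK
  have hker : φ.ker ≤ K := fun g hg => by
    rw [Subgroup.normalizerMonoidHom_ker, mem_subgroupOf] at hg
    exact mem_subgroupOf.2 (hc hg)
  obtain ⟨k, hk⟩ := IsPGroup.iff_card.1 (hAut.to_subgroup φ.range)
  have h1 : K.index ∣ 2 ^ k := by
    have := index_dvd_of_le hker
    rwa [Subgroup.index_ker, hk] at this
  have h2 : ¬ 2 ∣ K.index := fun hd => P.not_dvd_index (by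
    have hPN : (P : Subgroup G) ≤ normalizer ((P : Subgroup G) : Set G) := le_normalizer
    have e : K.index ∣ ((P : Subgroup G).subgroupOf (normalizer ((P : Subgroup G) : Set G))).index :=
      index_dvd_of_le fun g hg => mem_subgroupOf.2 (hP (mem_subgroupOf.1 hg))
    exact (hd.trans e).trans (Dvd.intro _ (relIndex_mul_index hPN)))
  obtain ⟨j, -, hj⟩ := (Nat.dvd_prime_pow Nat.prime_two).1 h1
  rcases j with _ | j
  · rw [pow_zero, index_eq_one] at hj
    exact subgroupOf_eq_top.1 hj
  · exact absurd (hj ▸ dvd_pow_self 2 (Nat.succ_ne_zero j)) h2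

/-- The automorphism group is the same for every Sylow subgroup. -/
theorem aut_of_sylow (P Q : Sylow 2 G) (hAut : IsPGroup 2 (MulAut (P : Subgroup G))) :
    IsPGroup 2 (MulAut (Q : Subgroup G)) := by
  haveI : Fact (Nat.Prime 2) := ⟨Nat.prime_two⟩
  exact hAut.of_equiv (MulAut.congr (Sylow.equiv P Q))

/-- A centraliser lies in a subgroup containing its 2-elements and the centraliser of one of its Sylow
subgroups. -/
theorem centralizer_le_of_two_elements (P : Sylow 2 G) (hAut : IsPGroup 2 (MulAut (P : Subgroup G)))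
    {u : G} (hPu : (P : Subgroup G) ≤ centralizer ({u} : Set G)) {M : Subgroup G}
    (h2 : ∀ c ∈ centralizer ({u} : Set G), (∃ k : ℕ, orderOf c = 2 ^ k) → c ∈ M)
    (hc : centralizer ((P : Subgroup G) : Set G) ≤ M) : centralizer ({u} : Set G) ≤ M := by
  haveI : Fact (Nat.Prime 2) := ⟨Nat.prime_two⟩
  set C := centralizer ({u} : Set G)
  set Z : Set C := {c : C | ∃ k : ℕ, orderOf (c : G) = 2 ^ k} with hZ
  haveI hn : (closure Z).Normal := by
    have hconj : ∀ g : C, ∀ c ∈ Z, g * c * g⁻¹ ∈ Z := fun g c hc => by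
      obtain ⟨k, hk⟩ := hc
      refine ⟨k, ?_⟩
      rw [← hk, Subgroup.coe_mul, Subgroup.coe_mul, Subgroup.coe_inv]
      exact (orderOf_injective (MulAut.conj (g : G)).toMonoidHom (MulAut.conj (g : G)).injective (c : G))
    refine ⟨fun x hx g => ?_⟩
    induction hx using closure_induction with
    | mem x hx => exact subset_closure (hconj g x hx)
    | one => simp
    | mul a b _ _ iha ihb =>
      rw [show g * (a * b) * g⁻¹ = (g * a * g⁻¹) * (g * b * g⁻¹) by group]
      exact mul_mem iha ihb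
    | inv a _ iha =>
      rw [show g * a⁻¹ * g⁻¹ = (g * a * g⁻¹)⁻¹ by group]
      exact inv_mem iha
  have hKM : closure Z ≤ M.subgroupOf C := (closure_le _).2 fun c hc =>
    mem_subgroupOf.2 (h2 c c.2 hc)
  have hPK : ((P.subtype hPu : Sylow 2 C) : Subgroup C) ≤ closure Z := fun c hc => by
    rw [P.coe_subtype, mem_subgroupOf] at hc
    refine subset_closure ?_
    obtain ⟨k, hk⟩ := IsPGroup.iff_orderOf.1 P.isPGroup' ⟨c, hc⟩
    exact ⟨k, by rw [← Subgroup.orderOf_coe] at hk; exact hk⟩
  have hPM : (P : Subgroup G) ≤ M := fun x hx => by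
    obtain ⟨k, hk⟩ := IsPGroup.iff_orderOf.1 P.isPGroup' ⟨x, hx⟩
    exact h2 x (hPu hx) ⟨k, by rw [← Subgroup.orderOf_coe] at hk; exact hk⟩
  have hN := normalizer_sylow_le P hAut hPM hc
  have htop := Sylow.normalizer_sup_eq_top' (N := closure Z) (P.subtype hPu) hPK
  have hNC : normalizer (((P.subtype hPu : Sylow 2 C) : Subgroup C) : Set C) ≤ M.subgroupOf C := by
    intro c hc'
    rw [mem_subgroupOf]
    refine hN (mem_normalizer_iff.2 fun x => ?_)
    rw [P.coe_subtype, mem_normalizer_iff] at hc'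
    constructor
    · intro hx
      exact mem_subgroupOf.1 ((hc' ⟨x, hPu hx⟩).1 (mem_subgroupOf.2 hx))
    · intro hx
      have hxC : x ∈ C := by
        have := C.mul_mem (C.mul_mem (C.inv_mem c.2) (hPu hx)) c.2
        rwa [show (c : G)⁻¹ * ((c : G) * x * (c : G)⁻¹) * c = x by group] at this
      exact mem_subgroupOf.1 ((hc' ⟨x, hxC⟩).2 (mem_subgroupOf.2 hx))
  have htopM : M.subgroupOf C = ⊤ := top_le_iff.1 (htop ▸ sup_le hNC hKM)
  exact subgroupOf_eq_top.1 htopM

variable [IsSimpleGroup G]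

/-- A subgroup containing the centralisers of all involutions of a Sylow 2-subgroup is everything. -/
theorem eq_top_of_centralizers (T : Sylow 2 G)
    (hconj : ∀ a b : G, orderOf a = 2 → orderOf b = 2 → IsConj a b)
    (hAut : IsPGroup 2 (MulAut (T : Subgroup G))) {z : G} (hz : orderOf z = 2)
    (hzT : z ∈ (T : Subgroup G)) (hzc : ∀ s ∈ (T : Subgroup G), s * z = z * s)
    (hnc : ∃ a ∈ (T : Subgroup G), ∃ b ∈ (T : Subgroup G), orderOf a = 2 ∧ orderOf b = 2 ∧ a * b ≠ b * a)
    (M : Subgroup G)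
    (hM : ∀ w ∈ (T : Subgroup G), orderOf w = 2 → centralizer ({w} : Set G) ≤ M) : M = ⊤ := by
  by_contra hne
  haveI : Fact (Nat.Prime 2) := ⟨Nat.prime_two⟩
  have hTM : (T : Subgroup G) ≤ M := fun s hs => hM z hzT hz (mem_centralizer_singleton_iff.2 (hzc s hs))
  have hCT : centralizer ((T : Subgroup G) : Set G) ≤ centralizer ({z} : Set G) :=
    centralizer_le (Set.singleton_subset_iff.2 hzT)
  have hNT := normalizer_sylow_le T hAut hTM (hCT.trans (hM z hzT hz))
  -- every involution of `M` is conjugate in `M` into `T`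
  have hinT : ∀ w ∈ M, orderOf w = 2 → ∃ m ∈ M, m * w * m⁻¹ ∈ (T : Subgroup G) := by
    intro w hw hw2
    obtain ⟨a, ha⟩ := exists_conj_mem_sylow (x := (⟨w, hw⟩ : M)) (n := 1)
      (by rw [Subgroup.orderOf_mk, hw2, pow_one]) (T.subtype hTM)
    have ha' : a * (⟨w, hw⟩ : M) * a⁻¹ ∈ ((T.subtype hTM : Sylow 2 M) : Subgroup M) := ha
    rw [T.coe_subtype, mem_subgroupOf] at ha'
    exact ⟨a, a.2, ha'⟩
  have hcent : ∀ w ∈ M, orderOf w = 2 → centralizer ({w} : Set G) ≤ M := by
    intro w hw hw2 c hc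
    obtain ⟨m, hm, hmw⟩ := hinT w hw hw2
    have h := hM _ hmw (by rw [orderOf_conj_eq, hw2]) (show m * c * m⁻¹ ∈ _ from
      mem_centralizer_singleton_iff.2 (by
        have e := mem_centralizer_singleton_iff.1 hc
        calc m * c * m⁻¹ * (m * w * m⁻¹) = m * (c * w) * m⁻¹ := by group
          _ = m * (w * c) * m⁻¹ := by rw [e]
          _ = m * w * m⁻¹ * (m * c * m⁻¹) := by group))
    have := M.mul_mem (M.mul_mem (M.inv_mem hm) h) hm
    rwa [show m⁻¹ * (m * c * m⁻¹) * m = c by group] at this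
  -- every conjugate of `z` in `M` is so by an element of `M`
  have hfus : ∀ g : G, g * z * g⁻¹ ∈ M → g ∈ M := by
    intro g hg
    have hg2 : orderOf (g * z * g⁻¹) = 2 := by rw [orderOf_conj_eq, hz]
    have hgT : ((g • T : Sylow 2 G) : Subgroup G) ≤ M := by
      rw [Sylow.coe_subgroup_smul]
      intro y hy
      obtain ⟨s, hs, rfl⟩ := mem_smul_pointwise_iff_exists _ _ _ |>.1 hy
      refine hcent _ hg hg2 (mem_centralizer_singleton_iff.2 ?_)
      show g * s * g⁻¹ * (g * z * g⁻¹) = g * z * g⁻¹ * (g * s * g⁻¹)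
      calc g * s * g⁻¹ * (g * z * g⁻¹) = g * (s * z) * g⁻¹ := by group
        _ = g * (z * s) * g⁻¹ := by rw [hzc s hs]
        _ = g * z * g⁻¹ * (g * s * g⁻¹) := by group
    obtain ⟨m, hm⟩ := MulAction.exists_smul_eq M ((g • T).subtype hgT) (T.subtype hTM)
    have e : ((m : G) * g) • T = T := by
      apply Sylow.ext
      rw [mul_smul]
      refine le_antisymm ?_ ?_
      · intro y hy
        rw [Sylow.coe_subgroup_smul, mem_smul_pointwise_iff_exists] at hy
        obtain ⟨s, hs, rfl⟩ := hy
        have hsM : s ∈ M := hgT hs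
        have hsS : (⟨s, hsM⟩ : M) ∈ (((g • T).subtype hgT : Sylow 2 M) : Subgroup M) := by
          rw [Sylow.coe_subtype, mem_subgroupOf]; exact hs
        have h1 : (MulAut.conj m) ⟨s, hsM⟩ ∈ ((m • (g • T).subtype hgT : Sylow 2 M) : Subgroup M) := by
          rw [Sylow.coe_subgroup_smul]
          exact smul_mem_pointwise_smul _ _ _ hsS
        rw [hm, T.coe_subtype, mem_subgroupOf] at h1
        exact h1
      · intro t ht
        rw [Sylow.coe_subgroup_smul, mem_smul_pointwise_iff_exists]
        have htM : t ∈ M := hTM ht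
        have h1 : (⟨t, htM⟩ : M) ∈ ((m • (g • T).subtype hgT : Sylow 2 M) : Subgroup M) := by
          rw [hm, T.coe_subtype, mem_subgroupOf]; exact ht
        rw [Sylow.coe_subgroup_smul, mem_smul_pointwise_iff_exists] at h1
        obtain ⟨s, hs, hst⟩ := h1
        rw [Sylow.coe_subtype, mem_subgroupOf] at hs
        exact ⟨s, hs, congrArg Subtype.val hst⟩
    rw [Sylow.smul_eq_iff_mem_normalizer] at e
    exact (mul_mem_cancel_left m.2).1 (hNT e)
  have hone : ∀ w ∈ M, orderOf w = 2 → ∃ m ∈ M, m * z * m⁻¹ = w := by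
    intro w hw hw2
    obtain ⟨g, hg⟩ := isConj_iff.1 (hconj z w hz hw2)
    exact ⟨g, hfus g (hg ▸ hw), hg⟩
  have heven : Even (Nat.card M) :=
    even_iff_two_dvd.2 (hz ▸ M.orderOf_dvd_natCard (hTM hzT))
  have hSE : Cfsg.IsStronglyEmbedded M := by
    refine ⟨hne, heven, fun g hg => Nat.not_even_iff_odd.1 fun he => hg ?_⟩
    obtain ⟨w, hw, hw2⟩ := exists_orderOf_prime_mem (even_iff_two_dvd.1 he)
    obtain ⟨hwM, hwg⟩ := mem_inf.1 hw
    obtain ⟨w', hw'M, hgw⟩ := hwg
    change g * w' * g⁻¹ = w at hgw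
    obtain ⟨m, hm, hmw⟩ := hone w' hw'M (by rw [← hw2, ← hgw, orderOf_conj_eq])
    have := hfus (g * m) (by
      rw [show g * m * z * (g * m)⁻¹ = g * (m * z * m⁻¹) * g⁻¹ by group, hmw, hgw]
      exact hwM)
    exact (mul_mem_cancel_right hm).1 this
  obtain ⟨a, ha, b, hb, ha2, hb2, hab⟩ := hnc
  have hPE : Cfsg.IsStronglyPEmbedded 2 M := isStronglyPEmbedded_iff.2
    ⟨even_iff_two_dvd.1 heven, hne, fun g hg h => Nat.not_even_iff_odd.2 (hSE.2.2 g hg)
      (even_iff_two_dvd.2 h)⟩
  have hrank : Cfsg.PRankAtLeast 2 2 G := by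
    have haz : a * z = z * a := hzc a ha
    have hane : a ≠ z := fun e => hab (by rw [e, ← hzc b hb])
    have ha1 : a * a = 1 := by rw [← pow_two, ← ha2, pow_orderOf_eq_one]
    have hz1 : z * z = 1 := by rw [← pow_two, ← hz, pow_orderOf_eq_one]
    refine ⟨closure {a, z}, isMulCommutative_closure ?_, fun x hx => ?_, ?_⟩
    · rintro x (rfl | rfl) y (rfl | rfl) <;> first | rfl | exact haz | exact haz.symm
    · induction hx using closure_induction with
      | mem x hx => rcases hx with rfl | rfl <;> rw [pow_two] <;> assumption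
      | one => exact one_pow 2
      | mul p q hp hq ihp ihq =>
        have hc := isMulCommutative_closure (k := ({a, z} : Set G))
          (by rintro x (rfl | rfl) y (rfl | rfl) <;> first | rfl | exact haz | exact haz.symm)
        have : Commute p q := congrArg Subtype.val (hc.is_comm.comm
          (⟨p, hp⟩ : closure ({a, z} : Set G)) ⟨q, hq⟩)
        rw [this.mul_pow, ihp, ihq, one_mul]
      | inv p _ ihp => rw [inv_pow, ihp, inv_one]
    · have hsub : ({1, a, z} : Set G) ⊂ (closure {a, z} : Subgroup G) := by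
        refine ⟨?_, fun h => ?_⟩
        · rintro x (rfl | rfl | rfl)
          · exact one_mem _
          · exact subset_closure (by simp)
          · exact subset_closure (by simp)
        · have h3 : a * z ∈ ({1, a, z} : Set G) := h ((Subgroup.closure _).mul_mem (subset_closure (by simp))
            (subset_closure (by simp)))
          rcases h3 with h3 | h3 | h3
          · exact hane (by
              calc a = a * z * z := by rw [mul_assoc, hz1, mul_one]
                _ = z := by rw [h3, one_mul])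
          · rw [mul_eq_left] at h3
            rw [h3, orderOf_one] at hz
            omega
          · rw [Set.mem_singleton_iff, mul_eq_right] at h3
            rw [h3, orderOf_one] at ha2
            omega
      have h := Set.ncard_lt_ncard hsub (Set.toFinite _)
      rw [show (2 : ℕ) ^ 2 = 3 + 1 by norm_num]
      have h3 : ({1, a, z} : Set G).ncard = 3 := Set.ncard_eq_three.2 ⟨1, a, z,
        fun e => by rw [← e, orderOf_one] at ha2; omega,
        fun e => by rw [← e, orderOf_one] at hz; omega, hane, rfl⟩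
      rw [h3, ← Nat.card_coe_set_eq] at h
      exact h
  haveI hsol : IsSolvable M := Cfsg.Agent.S2903.result hrank M hPE
  have hOG : Cfsg.oddCore G = ⊥ := by
    rcases (Grp.pPrimeCore_isNormal (p := 2) (G := G)).eq_bot_or_eq_top with e | e
    · exact e
    · exfalso
      have h8 := Grp.pPrimeCore_coprime (p := 2) (G := G)
      rw [e, Subgroup.card_top] at h8
      exact Nat.not_even_iff_odd.2 (Nat.coprime_two_right.1 h8)
        (even_iff_two_dvd.2 (hz ▸ _root_.orderOf_dvd_natCard z))
  have hO : Cfsg.oddCore M = ⊥ := by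
    have h := Cfsg.Agent.S1221.result M hSE
    rwa [hOG, le_bot_iff, map_eq_bot_iff_of_injective _ M.subtype_injective] at h
  -- an abelian normal 2-subgroup of `M`
  obtain ⟨A, hAn, hAc, hA⟩ : ∃ A : Subgroup M, A.Normal ∧ IsMulCommutative A ∧ A ≠ ⊥ := by
    obtain ⟨k, hk⟩ := (isSolvable_def M).1 hsol
    induction k with
    | zero =>
      exfalso
      rw [derivedSeries_zero] at hk
      have := Subgroup.card_top (G := M)
      rw [hk, Subgroup.card_bot] at this
      rw [← this] at heven
      exact absurd heven (by simp)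
    | succ k ih =>
      by_cases h0 : derivedSeries M k = ⊥
      · exact ih h0
      refine ⟨derivedSeries M k, derivedSeries_normal M k, ⟨⟨fun p q => Subtype.ext ?_⟩⟩, h0⟩
      have h := commutator_mem_commutator p.2 q.2
      rw [← derivedSeries_succ, hk, mem_bot, commutatorElement_eq_one_iff_mul_comm] at h
      exact h
  haveI := hAc
  have hA2 : ∀ x : M, x ∈ A → Odd (orderOf x) → x = 1 := by
    intro x hx ho
    let B : Subgroup M :=
      { carrier := {y | y ∈ A ∧ Odd (orderOf y)}
        one_mem' := ⟨one_mem _, by simp⟩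
        mul_mem' := fun {p q} hp hq => ⟨A.mul_mem hp.1 hq.1, by
          have hcm : Commute p q := congrArg Subtype.val (hAc.is_comm.comm (⟨p, hp.1⟩ : A) ⟨q, hq.1⟩)
          exact (hp.2.mul hq.2).of_dvd_nat hcm.orderOf_mul_dvd_mul_orderOf⟩
        inv_mem' := fun {p} hp => ⟨A.inv_mem hp.1, by rw [orderOf_inv]; exact hp.2⟩ }
    haveI : B.Normal := ⟨fun y hy g => ⟨hAn.conj_mem y hy.1 g, by rw [orderOf_conj_eq]; exact hy.2⟩⟩
    have hB : B ≤ Cfsg.oddCore M := by
      refine (Grp.pPrimeCore_le_iff (p := 2) inferInstance).2 (Nat.coprime_two_right.2 ?_)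
      refine Nat.not_even_iff_odd.1 fun he => ?_
      obtain ⟨y, hy, hy2⟩ := exists_orderOf_prime_mem (even_iff_two_dvd.1 he)
      have := hy.2
      rw [hy2] at this
      exact Nat.not_odd_iff_even.2 even_two this
    have := hB (show x ∈ B from ⟨hx, ho⟩)
    rwa [hO, mem_bot] at this
  obtain ⟨x, hx, hx1⟩ := (Subgroup.bot_or_exists_ne_one A).resolve_left hA
  have h2x : 2 ∣ Nat.card A := by
    by_contra hno
    exact hx1 (hA2 x hx ((Nat.odd_iff.2 (by omega)).of_dvd_nat (A.orderOf_dvd_natCard hx)))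
  obtain ⟨y, hy, hy2⟩ := exists_orderOf_prime_mem h2x
  have hall : ∀ w : M, orderOf (w : G) = 2 → w ∈ A := by
    intro w hw
    obtain ⟨m₁, h1, e1⟩ := hone y y.2 (by rw [Subgroup.orderOf_coe, hy2])
    obtain ⟨m₂, h2, e2⟩ := hone w w.2 hw
    have e : (⟨m₂, h2⟩ : M) * ⟨m₁, h1⟩⁻¹ * y * ((⟨m₂, h2⟩ : M) * ⟨m₁, h1⟩⁻¹)⁻¹ = w := Subtype.ext (by
      simp only [Subgroup.coe_mul, Subgroup.coe_inv, ← e1, ← e2]
      group)
    exact e ▸ hAn.conj_mem y hy _
  exact hab (congrArg (fun t : A => ((t : M) : G)) (hAc.is_comm.comm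
    ⟨⟨a, hTM ha⟩, hall ⟨a, hTM ha⟩ ha2⟩ ⟨⟨b, hTM hb⟩, hall ⟨b, hTM hb⟩ hb2⟩))

end Cfsg.Agent.Invol.AbgConsumers
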